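import Cfsg.Agent.Leech.HSConfig
import Cfsg.Agent.SporadicA.M24Frames

/-!
The 352 minimal vectors with inner products 16 and -24 with the two vectors of the standard
Higman-Sims configuration: classification, number, transitivity.
-/

set_option autoImplicit false

namespace Cfsg.Agent.SporStruct.HS352

open Cfsg
open Cfsg.Agent.SporadicA
open Cfsg.Agent.Leech.HSList Cfsg.Agent.Leech.FrameTriplesOf Cfsg.Agent.Leech.FrameAux
open Cfsg.Agent.Leech.HSConfig
open scoped Pointwise

/-- The minimal vectors with inner products 16 and -24 with `v` and `w`. -/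
def Z (v w : leechLattice) : Set leechLattice :=
  {x | sqNorm (x : GolayPt → ℤ) = 32 ∧ dotInt (v : GolayPt → ℤ) (x : GolayPt → ℤ) = 16 ∧
    dotInt (w : GolayPt → ℤ) (x : GolayPt → ℤ) = -24}

theorem mem_Z {v w x : leechLattice} : x ∈ Z v w ↔ sqNorm (x : GolayPt → ℤ) = 32 ∧
    dotInt (v : GolayPt → ℤ) (x : GolayPt → ℤ) = 16 ∧
    dotInt (w : GolayPt → ℤ) (x : GolayPt → ℤ) = -24 := Iff.rfl

theorem smul_mem_Z (g : Co0) {v w x : leechLattice} : g • x ∈ Z (g • v) (g • w) ↔ x ∈ Z v w := by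
  rw [mem_Z, mem_Z, co0_sqNorm, co0_dot, co0_dot]

/-- The set is closed under `x ↦ -w - x`. -/
theorem flip_mem {v w x : leechLattice} (hw : sqNorm (w : GolayPt → ℤ) = 48)
    (hvw : dotInt (v : GolayPt → ℤ) (w : GolayPt → ℤ) = -32) (hx : x ∈ Z v w) :
    -w - x ∈ Z v w := by
  obtain ⟨h1, h2, h3⟩ := hx
  have e : ((-w - x : leechLattice) : GolayPt → ℤ) = -((w : GolayPt → ℤ) + (x : GolayPt → ℤ)) := by
    rw [AddSubgroup.coe_sub, AddSubgroup.coe_neg]; abel
  have e2 : sqNorm (-((w : GolayPt → ℤ) + (x : GolayPt → ℤ))) =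
      sqNorm ((w : GolayPt → ℤ) + (x : GolayPt → ℤ)) := by
    rw [sqNorm_def, sqNorm_def]
    exact Finset.sum_congr rfl fun i _ => by rw [Pi.neg_apply]; ring
  have e3 : ∀ u z : GolayPt → ℤ, dotInt u (-z) = -dotInt u z := by
    intro u z
    rw [dot_comm, dot_neg_left, dot_comm]
  refine ⟨?_, ?_, ?_⟩
  · rw [e, e2, sqNorm_add, hw, h3, h1]; norm_num
  · rw [e, e3, dot_add_right, hvw, h2]; norm_num
  · rw [e, e3, dot_add_right, dot_self, hw, h3]; norm_num

theorem flip_flip (w x : leechLattice) : -w - (-w - x) = x := by abel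

/-- The octads through `some 0` missing `none`. -/
def octs : Set (Finset GolayPt) := {o | o ∈ octads ∧ some 0 ∈ o ∧ none ∉ o}

/-- Even vectors of the configuration. -/
theorem classify_even {x y : GolayPt → ℤ} (hy : ∀ i, x i = 2 * y i)
    (hc : (Finset.univ.filter fun i => y i % 2 = 1) ∈ supports (golayCode : Set (GolayPt → ZMod 2)))
    (hn : ∑ i, x i ^ 2 = 32)
    (h1 : ∑ i, x i + 4 * x none = 16) (h2 : ∑ i, x i + 4 * x (some 0) = 24) :
    ∃ o ∈ octs, x = vC o := by
  simp only [hy, mul_pow, ← Finset.mul_sum] at hn h1 h2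
  have ht : y (some 0) = y none + 1 := by linarith
  rw [sum_split, ht] at hn h1
  set s := y none with hs
  have hS : ∑ i ∈ rest, y i = 7 - 6 * s := by linarith
  have hQ : ∑ i ∈ rest, y i ^ 2 = 7 - 2 * s ^ 2 - 2 * s := by linarith
  have hP : ∑ i ∈ rest, y i * (y i - 1) = -2 * (s * (s - 2)) := by
    have : ∑ i ∈ rest, y i * (y i - 1) = ∑ i ∈ rest, y i ^ 2 - ∑ i ∈ rest, y i := by
      rw [← Finset.sum_sub_distrib]
      exact Finset.sum_congr rfl fun i _ => by ring
    rw [this, hS, hQ]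
    ring
  have hnn : 0 ≤ ∑ i ∈ rest, y i * (y i - 1) :=
    Finset.sum_nonneg fun i _ => mul_pred_nonneg (y i)
  have hnq : 0 ≤ ∑ i ∈ rest, y i ^ 2 := Finset.sum_nonneg fun i _ => sq_nonneg _
  rw [hP] at hnn
  rw [hQ] at hnq
  have hs01 : s = 0 ∨ s = 1 := by
    have h3 : s ≤ 1 := by nlinarith
    have h4 : 0 ≤ s := by nlinarith
    omega
  rcases hs01 with h | h
  · rw [h] at hS hP hs ht
    norm_num at hS hP
    have hz : ∀ i ∈ rest, y i = 0 ∨ y i = 1 := by
      have := (Finset.sum_eq_zero_iff_of_nonneg fun i _ => mul_pred_nonneg (y i)).1 hP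
      intro i hi
      rcases mul_eq_zero.1 (this i hi) with h | h
      · exact Or.inl h
      · exact Or.inr (by linarith)
    have hall : ∀ i, y i = 0 ∨ y i = 1 := by
      intro i
      by_cases hi : i ∈ rest
      · exact hz i hi
      · rw [mem_rest, not_and_or, not_not, not_not] at hi
        rcases hi with rfl | rfl
        · left; rw [← hs]
        · right; rw [ht]; norm_num
    refine ⟨Finset.univ.filter fun i => y i % 2 = 1, ⟨⟨hc, ?_⟩, ?_, ?_⟩, ?_⟩
    · have h8 : ∑ i, y i = 8 := by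
        rw [sum_split, ht, hS, ← hs]
        norm_num
      have e : ∑ i, y i = ((Finset.univ.filter fun i => y i % 2 = 1).card : ℤ) := by
        rw [Finset.card_filter]
        push_cast
        refine Finset.sum_congr rfl fun i _ => ?_
        rcases hall i with hi | hi <;> rw [hi] <;> norm_num
      rw [h8] at e
      exact_mod_cast e.symm
    · simp only [Finset.mem_filter, Finset.mem_univ, true_and]
      rw [ht]
      norm_num
    · simp only [Finset.mem_filter, Finset.mem_univ, true_and]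
      rw [← hs]
      norm_num
    · funext i
      unfold vC
      simp only [Finset.mem_filter, Finset.mem_univ, true_and]
      rw [hy i]
      rcases hall i with hi | hi <;> rw [hi] <;> norm_num
  · exfalso
    rw [h] at hS hQ hs ht
    norm_num at hS hQ ht
    have hle : ((Finset.univ.filter fun i => y i % 2 = 1).card : ℤ) ≤ 4 := by
      rw [Finset.card_filter]
      push_cast
      rw [sum_split]
      have a1 : (if y none % 2 = 1 then (1 : ℤ) else 0) = 1 := by rw [← hs]; norm_num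
      have a2 : (if y (some 0) % 2 = 1 then (1 : ℤ) else 0) = 0 := by rw [ht]; norm_num
      have a3 : ∑ i ∈ rest, (if y i % 2 = 1 then (1 : ℤ) else 0) ≤ ∑ i ∈ rest, y i ^ 2 := by
        refine Finset.sum_le_sum fun i _ => ?_
        split
        · next hodd =>
          have : y i ≠ 0 := by omega
          have := Int.one_le_abs this
          nlinarith [sq_abs (y i)]
        · exact sq_nonneg _
      rw [a1, a2]
      rw [hQ] at a3
      linarith
    have hmem : (none : GolayPt) ∈ Finset.univ.filter fun i => y i % 2 = 1 := by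
      simp only [Finset.mem_filter, Finset.mem_univ, true_and]
      rw [← hs]
      norm_num
    have hpos := Finset.card_pos.2 ⟨_, hmem⟩
    rcases GolayBase.card_of_mem_supports hc with h | h | h | h | h
    · omega
    all_goals rw [h] at hle; norm_num at hle

theorem vC_sum {o : Finset GolayPt} (ho : o ∈ octs) :
    ∑ i, vC o i ^ 2 = 32 ∧ ∑ i, vC o i + 4 * vC o none = 16 ∧
      ∑ i, vC o i + 4 * vC o (some 0) = 24 := by
  have h1 : vC o none = 0 := if_neg ho.2.2
  have h2 : vC o (some 0) = 2 := if_pos ho.2.1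
  rw [sum_sq_vC ho.1, sum_vC ho.1, h1, h2]
  norm_num

theorem mem_Z_std {v w : leechLattice} (h : Std v w) (x : leechLattice) :
    x ∈ Z v w ↔ ∑ i, (x : GolayPt → ℤ) i ^ 2 = 32 ∧
      ∑ i, (x : GolayPt → ℤ) i + 4 * (x : GolayPt → ℤ) none = 16 ∧
      ∑ i, (x : GolayPt → ℤ) i + 4 * (x : GolayPt → ℤ) (some 0) = 24 := by
  rw [mem_Z, h.hv, h.hw, dot_vec_five, dot_vec_neg, sqNorm_def, neg_inj]

/-- `vC o` as a lattice vector belongs to the configuration. -/
theorem lC_mem {v w : leechLattice} (h : Std v w) {o : Finset GolayPt} (ho : o ∈ octs) :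
    lC o ∈ Z v w := by
  rw [mem_Z_std h, coe_lC ho.1]
  exact vC_sum ho

theorem std_w {v w : leechLattice} (h : Std v w) : sqNorm (w : GolayPt → ℤ) = 48 := by
  rw [h.hw, sqNorm_vec3]; norm_num

theorem std_vw {v w : leechLattice} (h : Std v w) :
    dotInt (v : GolayPt → ℤ) (w : GolayPt → ℤ) = -32 := by
  rw [h.hv, h.hw]; decide

/-- Classification of the configuration. -/
theorem mem_Z_iff {v w : leechLattice} (h : Std v w) (x : leechLattice) :
    x ∈ Z v w ↔ (∃ o ∈ octs, x = lC o) ∨ (∃ o ∈ octs, x = -w - lC o) := by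
  constructor
  · intro hx
    have hx' := (mem_Z_std h x).1 hx
    rcases even_or_odd x.2 with ⟨y, hy, hc⟩ | ⟨y, hy, -⟩
    · left
      obtain ⟨o, ho, hxo⟩ := classify_even hy hc hx'.1 hx'.2.1 hx'.2.2
      exact ⟨o, ho, Subtype.ext (by rw [coe_lC ho.1]; exact hxo)⟩
    · right
      have hz := flip_mem (std_w h) (std_vw h) hx
      have hz' := (mem_Z_std h _).1 hz
      rcases even_or_odd (-w - x).2 with ⟨z, hz1, hzc⟩ | ⟨z, hz1, -⟩
      · obtain ⟨o, ho, hxo⟩ := classify_even hz1 hzc hz'.1 hz'.2.1 hz'.2.2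
        refine ⟨o, ho, ?_⟩
        have : -w - x = lC o := Subtype.ext (by rw [coe_lC ho.1]; exact hxo)
        rw [← this, flip_flip]
      · exfalso
        have a := hz1 none
        have b := hy none
        rw [AddSubgroup.coe_sub, AddSubgroup.coe_neg, Pi.sub_apply, Pi.neg_apply, h.hw, vec3_none,
          b] at a
        omega
  · rintro (⟨o, ho, rfl⟩ | ⟨o, ho, rfl⟩)
    · exact lC_mem h ho
    · exact flip_mem (std_w h) (std_vw h) (lC_mem h ho)

/-! ### The 176 octads -/

/-- Indices of the octads through `some 0` missing `none`. -/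
def idx176 : Finset ℕ := (Finset.range 4096).filter fun i =>
  Nat.beq (GolayBase.popcount (GolayBase.enc i)) 8 && (!((GolayBase.enc i).testBit 23) &&
    (GolayBase.enc i).testBit 0)

theorem card_idx176 : idx176.card = 176 := by decide +kernel

theorem mem_idx176 {i : ℕ} : i ∈ idx176 ↔ i < 4096 ∧ GolayBase.popcount (GolayBase.enc i) = 8 ∧
    (GolayBase.enc i).testBit 23 = false ∧ (GolayBase.enc i).testBit 0 = true := by
  unfold idx176
  rw [Finset.mem_filter, Finset.mem_range, Bool.and_eq_true, Bool.and_eq_true, Bool.not_eq_true']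
  have : (GolayBase.popcount (GolayBase.enc i)).beq 8 = true ↔
      GolayBase.popcount (GolayBase.enc i) = 8 := ⟨Nat.eq_of_beq_eq_true, fun h => by rw [h]; rfl⟩
  rw [this]

theorem octs_eq :
    octs = (fun i => GolayBase.fin (GolayBase.enc i)) '' (idx176 : Set ℕ) := by
  ext o
  rw [Set.mem_image]
  simp only [Finset.mem_coe, mem_idx176]
  constructor
  · rintro ⟨ho, h1, h2⟩
    have hc := (GolayBase.mem_supports_iff o).1 ho.1
    obtain ⟨i, hi, he⟩ := GolayBase.isCode_iff_exists.1 hc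
    have hf : GolayBase.fin (GolayBase.enc i) = o := by rw [← he, GolayBase.fin_maskOf]
    refine ⟨i, ⟨hi, ?_, ?_, ?_⟩, hf⟩
    · rw [← GolayBase.card_fin, hf]; exact ho.2
    · rw [← hf, GolayBase.mem_fin] at h2
      rw [Bool.not_eq_true] at h2
      exact h2
    · rw [← hf, GolayBase.mem_fin] at h1; exact h1
  · rintro ⟨i, ⟨hi, h1, h2, h3⟩, rfl⟩
    refine ⟨⟨?_, ?_⟩, ?_, ?_⟩
    · exact (GolayBase.fin_mem_supports_iff (GolayBase.enc_lt i)).2 (GolayBase.isCode_enc i)
    · rw [GolayBase.card_fin, h1]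
    · exact GolayBase.mem_fin.2 h3
    · rw [GolayBase.mem_fin]
      intro h
      have h' : (GolayBase.enc i).testBit 23 = true := h
      rw [h2] at h'
      exact Bool.noConfusion h'

theorem ncard_octs : octs.ncard = 176 := by
  have hinj : Set.InjOn (fun i => GolayBase.fin (GolayBase.enc i)) (idx176 : Set ℕ) := by
    intro i hi j hj h
    have hi' : i < 4096 := (mem_idx176.1 hi).1
    have hj' : j < 4096 := (mem_idx176.1 hj).1
    exact GolayBase.enc_injOn hi' hj'
      (GolayBase.fin_injective (GolayBase.enc_lt i) (GolayBase.enc_lt j) h)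
  rw [octs_eq, hinj.ncard_image, Set.ncard_coe_finset, card_idx176]

theorem lC_injOn_octs : Set.InjOn lC octs := fun o ho o' ho' h =>
  vC_injective (by rw [← coe_lC ho.1, ← coe_lC ho'.1, h])

theorem ncard_Z_std {v w : leechLattice} (h : Std v w) : (Z v w).ncard = 352 := by
  have e : Z v w = lC '' octs ∪ (fun x => -w - x) '' (lC '' octs) := by
    ext x
    rw [mem_Z_iff h]
    constructor
    · rintro (⟨o, ho, rfl⟩ | ⟨o, ho, rfl⟩)
      · exact Or.inl ⟨o, ho, rfl⟩
      · exact Or.inr ⟨_, ⟨o, ho, rfl⟩, rfl⟩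
    · rintro (⟨o, ho, rfl⟩ | ⟨_, ⟨o, ho, rfl⟩, rfl⟩)
      · exact Or.inl ⟨o, ho, rfl⟩
      · exact Or.inr ⟨o, ho, rfl⟩
  have n1 : (lC '' octs).ncard = 176 := by rw [lC_injOn_octs.ncard_image, ncard_octs]
  have hinj : Function.Injective (fun x : leechLattice => -w - x) := fun x y hxy => by
    have := congrArg (fun z => -w - z) hxy
    simpa only [flip_flip] using this
  have n2 : ((fun x : leechLattice => -w - x) '' (lC '' octs)).ncard = 176 := by
    rw [Set.ncard_image_of_injective _ hinj, n1]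
  have f1 : (lC '' octs).Finite := Set.finite_of_ncard_ne_zero (by rw [n1]; norm_num)
  rw [e, Set.ncard_union_eq _ f1 (f1.image _), n1, n2]
  rw [Set.disjoint_left]
  rintro _ ⟨o, ho, rfl⟩ ⟨_, ⟨o', ho', rfl⟩, heq⟩
  have := congrArg (fun z : leechLattice => (z : GolayPt → ℤ) none) heq
  simp only [AddSubgroup.coe_sub, AddSubgroup.coe_neg, Pi.sub_apply, Pi.neg_apply, h.hw, vec3_none,
    coe_lC ho.1, coe_lC ho'.1] at this
  have h1 : vC o none = 0 := if_neg ho.2.2
  have h2 : vC o' none = 0 := if_neg ho'.2.2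
  rw [h1, h2] at this
  norm_num at this

theorem ncard_Z_smul (g : Co0) (v w : leechLattice) :
    (Z (g • v) (g • w)).ncard = (Z v w).ncard := by
  have : Z (g • v) (g • w) = (fun y => g • y) '' Z v w := by
    ext y
    constructor
    · intro h1
      exact ⟨g⁻¹ • y, by rw [← smul_mem_Z g, smul_inv_smul]; exact h1, smul_inv_smul g y⟩
    · rintro ⟨z, h1, rfl⟩
      exact (smul_mem_Z g).2 h1
  rw [this, (MulAction.injective g).injOn.ncard_image]

/-! ### Transitivity -/

/-- Five further points of an octad through `some 0`. -/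
theorem exists_frame {o : Finset GolayPt} (ho : o ∈ octs) :
    ∃ a : Fin 7 → GolayPt, Function.Injective a ∧ a 0 = some 0 ∧ a 6 = none ∧
      ∀ i : Fin 7, i < 6 → a i ∈ o := by
  have hc : 5 ≤ (o.erase (some 0)).card := by
    rw [Finset.card_erase_of_mem ho.2.1, ho.1.2]
    norm_num
  obtain ⟨t, ht, ht5⟩ := Finset.exists_subset_card_eq hc
  have hne : ∀ p ∈ t, p ≠ some 0 ∧ p ∈ o := fun p hp => Finset.mem_erase.1 (ht hp)
  obtain ⟨f⟩ : Nonempty (Fin 5 ≃ t) := ⟨(Fintype.equivFinOfCardEq (by rw [Fintype.card_coe, ht5])).symm⟩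
  refine ⟨![some 0, f 0, f 1, f 2, f 3, f 4, none], ?_, rfl, rfl, ?_⟩
  · have hf : ∀ i j : Fin 5, (f i : GolayPt) = f j → i = j := fun i j h =>
      f.injective (Subtype.ext h)
    have h0 : ∀ i : Fin 5, (f i : GolayPt) ≠ some 0 := fun i => (hne _ (f i).2).1
    have h6 : ∀ i : Fin 5, (f i : GolayPt) ≠ none := fun i h => ho.2.2 (h ▸ (hne _ (f i).2).2)
    have hff : ∀ i j : Fin 5, i ≠ j → (f i : GolayPt) ≠ f j := fun i j hij h => hij (hf i j h)
    intro a b hab
    fin_cases a <;> fin_cases b <;> first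
      | rfl
      | exact absurd hab (h0 _)
      | exact absurd hab.symm (h0 _)
      | exact absurd hab (h6 _)
      | exact absurd hab.symm (h6 _)
      | exact absurd hab (hff _ _ (by decide))
      | exact absurd hab (Option.some_ne_none _)
      | exact absurd hab.symm (Option.some_ne_none _)
  · intro i hi
    fin_cases i
    · exact ho.2.1
    · exact (hne _ (f 0).2).2
    · exact (hne _ (f 1).2).2
    · exact (hne _ (f 2).2).2
    · exact (hne _ (f 3).2).2
    · exact (hne _ (f 4).2).2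
    · exact absurd hi (by decide)

theorem exists_perm_octs {o o' : Finset GolayPt} (ho : o ∈ octs) (ho' : o' ∈ octs) :
    ∃ σ ∈ M24, σ none = none ∧ σ (some 0) = some 0 ∧ σ • o = o' := by
  obtain ⟨a, ha, ha0, ha6, hao⟩ := exists_frame ho
  obtain ⟨b, hb, hb0, hb6, hbo⟩ := exists_frame ho'
  obtain ⟨σ, ⟨hσ, h⟩, -⟩ := M24Frames.exists_unique_map a b
    ⟨ha, o, ho.1, hao, by rw [ha6]; exact ho.2.2⟩ ⟨hb, o', ho'.1, hbo, by rw [hb6]; exact ho'.2.2⟩
  refine ⟨σ, hσ, ?_, ?_, ?_⟩
  · have := h 6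
    rwa [ha6, hb6] at this
  · have := h 0
    rwa [ha0, hb0] at this
  · apply GolayBase.octad_unique (M24Frames.smul_mem_octads hσ ho.1) ho'.1
    have hsub : (Finset.univ.filter fun i : Fin 7 => i < 6).image b ⊆ σ • o ∩ o' := by
      intro p hp
      obtain ⟨i, hi, rfl⟩ := Finset.mem_image.1 hp
      have hi' : i < 6 := (Finset.mem_filter.1 hi).2
      refine Finset.mem_inter.2 ⟨?_, hbo i hi'⟩
      rw [← h i]
      exact Finset.smul_mem_smul_finset (hao i hi')
    have := Finset.card_le_card hsub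
    rw [Finset.card_image_of_injective _ hb] at this
    exact le_trans (by decide) this

/-- Transitivity on the even vectors. -/
theorem trans_even {v w : leechLattice} (h : Std v w) {o o' : Finset GolayPt} (ho : o ∈ octs)
    (ho' : o' ∈ octs) : ∃ g : Co0, g • v = v ∧ g • w = w ∧ g • lC o = lC o' := by
  obtain ⟨σ, hσ, h1, h2, h3⟩ := exists_perm_octs ho ho'
  obtain ⟨g, hg⟩ := exists_co0_of_perm σ hσ
  refine ⟨g, fix_vec3 h1 h2 hg h.hv, fix_vec3 h1 h2 hg h.hw, ?_⟩
  apply Subtype.ext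
  funext i
  rw [hg, coe_lC ho.1, coe_lC ho'.1, ← h3]
  unfold vC
  have : σ.symm i ∈ o ↔ i ∈ σ • o := by
    rw [Finset.mem_smul_finset]
    constructor
    · intro hp
      exact ⟨_, hp, by simp⟩
    · rintro ⟨q, hq, rfl⟩
      simpa using hq
  simp only [this]

theorem dot_vB_vC {j : GolayPt} {o : Finset GolayPt} (ho : o ∈ octads) (hj : j ∉ o) :
    dotInt (vB j) (vC o) = 16 := by
  rw [dotInt_def]
  have : ∀ i, vB j i * vC o i = vC o i := by
    intro i
    unfold vB vC
    by_cases hi : i = j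
    · rw [hi, if_neg hj]; norm_num
    · rw [if_neg hi, one_mul]
  rw [Finset.sum_congr rfl fun i _ => this i, sum_vC ho]

/-- An even vector can be moved to an odd vector. -/
theorem exists_even_odd (hT : Trans64) {v w : leechLattice} (h : Std v w) {o : Finset GolayPt}
    (ho : o ∈ octs) : ∃ g : Co0, g • v = v ∧ g • w = w ∧ ∃ o' ∈ octs, g • lC o = -w - lC o' := by
  obtain ⟨j, hj, hjr⟩ : ∃ j, j ∉ o ∧ j ∈ rest := by
    by_contra hcon
    push Not at hcon
    have hsub : rest ⊆ o := by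
      intro p hp
      by_contra hpo
      exact hcon p hpo hp
    have := Finset.card_le_card hsub
    rw [Leech.HSList.card_rest, ho.1.2] at this
    norm_num at this
  have hX : lB j ∈ X v w := (h.mem_X_iff _).2 (Or.inr (Or.inl ⟨j, hjr, rfl⟩))
  have hv48 : sqNorm (v : GolayPt → ℤ) = 48 := by rw [h.hv, sqNorm_vec3]; norm_num
  obtain ⟨g, h1, h2, h3⟩ := hs_triple_of hT v w (lB j) hv48 (std_w h) (std_vw h) hX.1 hX.2.1 hX.2.2
  have e1 : g • v = v := Subtype.ext (h1.trans h.hv.symm)
  have e2 : g • w = w := Subtype.ext (h2.trans h.hw.symm)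
  refine ⟨g, e1, e2, ?_⟩
  have hZ : g • lC o ∈ Z v w := by
    have := (smul_mem_Z g).2 (lC_mem h ho)
    rwa [e1, e2] at this
  rcases (mem_Z_iff h _).1 hZ with ⟨o', ho', hgo⟩ | hgo
  · exfalso
    have hd := co0_dot g (lB j) (lC o)
    rw [hgo, h3, coe_lC ho'.1, coe_lB, coe_lC ho.1, dot_vB_vC ho.1 hj, ← vA_eq, dotInt_def,
      sum_vA_mul] at hd
    have a1 : vC o' none = 0 := if_neg ho'.2.2
    have a2 : vC o' (some 0) = 2 := if_pos ho'.2.1
    rw [a1, a2] at hd
    norm_num at hd
  · exact hgo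

/-- Every vector of the configuration is the image of a given even one. -/
theorem trans_aux (hT : Trans64) {v w : leechLattice} (h : Std v w) {o : Finset GolayPt}
    (ho : o ∈ octs) (x : leechLattice) (hx : x ∈ Z v w) :
    ∃ g : Co0, g • v = v ∧ g • w = w ∧ g • lC o = x := by
  rcases (mem_Z_iff h _).1 hx with ⟨o', ho', rfl⟩ | ⟨o', ho', rfl⟩
  · exact trans_even h ho ho'
  · obtain ⟨g, g1, g2, o1, ho1, g3⟩ := exists_even_odd hT h ho
    obtain ⟨k, k1, k2, k3⟩ := trans_even h ho1 ho'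
    refine ⟨k * g, by rw [mul_smul, g1, k1], by rw [mul_smul, g2, k2], ?_⟩
    rw [mul_smul, g3, co0_sub, co0_neg, k2, k3]

/-- Transitivity, for arbitrary `v` and `w`. -/
theorem trans_Z (hT : Trans64) (hT48 : ∀ v w : leechLattice, sqNorm (v : GolayPt → ℤ) = 48 →
      sqNorm (w : GolayPt → ℤ) = 48 → ∃ g : Co0, g • v = w)
    (v w : leechLattice) (hv : sqNorm (v : GolayPt → ℤ) = 48)
    (hw : sqNorm (w : GolayPt → ℤ) = 48)
    (hvw : dotInt (v : GolayPt → ℤ) (w : GolayPt → ℤ) = -32) :
    ∃ g : Co0, Std (g • v) (g • w) := by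
  obtain ⟨x, hx⟩ := X_nonempty hT48 v w hv hw hvw
  obtain ⟨g, h1, h2, -⟩ := hs_triple_of hT v w x hv hw hvw hx.1 hx.2.1 hx.2.2
  exact ⟨g, h1, h2⟩

end Cfsg.Agent.SporStruct.HS352
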