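/-
The field of order 25 in coordinates: F = F5(θ), θ² = 2; elements are coded by natural numbers
n < 25, n ↦ (n mod 5) + (n div 5) θ; kernel-friendly arithmetic on the codes.
-/
import Mathlib

set_option autoImplicit false

namespace Cfsg.Agent.SporStruct.U35Field

/-- addition on codes -/
def addN (x y : ℕ) : ℕ := (x % 5 + y % 5) % 5 + 5 * ((x / 5 + y / 5) % 5)
/-- multiplication on codes -/
def mulN (x y : ℕ) : ℕ :=
  ((x % 5) * (y % 5) + 2 * ((x / 5) * (y / 5))) % 5 + 5 * (((x % 5) * (y / 5) + (x / 5) * (y % 5)) % 5)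
/-- conjugation (fifth power) on codes -/
def conjN (x : ℕ) : ℕ := x % 5 + 5 * ((4 * (x / 5)) % 5)
/-- inverse on codes -/
def invN (x : ℕ) : ℕ :=
  mulN (conjN x) (((mulN x (conjN x)) * (mulN x (conjN x)) * (mulN x (conjN x))) % 5)

theorem addN_lt (x y : ℕ) : addN x y < 25 := by
  unfold addN; omega

theorem mulN_lt (x y : ℕ) : mulN x y < 25 := by
  unfold mulN; omega

theorem invN_lt (x : ℕ) : invN x < 25 := mulN_lt _ _

section
variable {F : Type*} [Field F]

/-- the element of the field with a given code -/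
def e (θ : F) (n : ℕ) : F := ((n % 5 : ℕ) : F) + ((n / 5 : ℕ) : F) * θ

theorem cast_mod5 (h5 : (5 : F) = 0) (n : ℕ) : ((n % 5 : ℕ) : F) = (n : F) := by
  conv_rhs => rw [← Nat.mod_add_div n 5]
  push_cast
  rw [h5]; ring

theorem e_of_lt5 (θ : F) {n : ℕ} (hn : n < 5) : e θ n = (n : F) := by
  unfold e
  rw [Nat.mod_eq_of_lt hn, Nat.div_eq_of_lt hn]; simp

theorem e_zero (θ : F) : e θ 0 = 0 := by rw [e_of_lt5 θ (by norm_num)]; simp
theorem e_one (θ : F) : e θ 1 = 1 := by rw [e_of_lt5 θ (by norm_num)]; simp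

theorem e_pair (h5 : (5 : F) = 0) (θ : F) (a b : ℕ) (ha : a < 5) :
    e θ (a + 5 * b) = (a : F) + (b : F) * θ := by
  unfold e
  rw [show (a + 5 * b) % 5 = a by omega, show (a + 5 * b) / 5 = b by omega]

theorem e_add (h5 : (5 : F) = 0) (θ : F) (x y : ℕ) : e θ (addN x y) = e θ x + e θ y := by
  unfold addN
  rw [e_pair h5 θ _ _ (Nat.mod_lt _ (by norm_num)), cast_mod5 h5, cast_mod5 h5]
  unfold e
  push_cast
  ring

theorem e_mul (h5 : (5 : F) = 0) (θ : F) (hθ : θ ^ 2 = 2) (x y : ℕ) :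
    e θ (mulN x y) = e θ x * e θ y := by
  unfold mulN
  rw [e_pair h5 θ _ _ (Nat.mod_lt _ (by norm_num)), cast_mod5 h5, cast_mod5 h5]
  unfold e
  push_cast
  linear_combination (-(((x / 5 : ℕ) : F) * ((y / 5 : ℕ) : F))) * hθ

theorem nat_pow_five (h5 : (5 : F) = 0) (n : ℕ) : ((n : F)) ^ 5 = n := by
  rw [← cast_mod5 h5 n]
  have h : n % 5 < 5 := Nat.mod_lt _ (by norm_num)
  interval_cases (n % 5)
  · simp
  · simp
  · push_cast; linear_combination (6 : F) * h5
  · push_cast; linear_combination (48 : F) * h5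
  · push_cast; linear_combination (204 : F) * h5

theorem add_pow_five (h5 : (5 : F) = 0) (x y : F) : (x + y) ^ 5 = x ^ 5 + y ^ 5 := by
  linear_combination (x ^ 4 * y + 2 * x ^ 3 * y ^ 2 + 2 * x ^ 2 * y ^ 3 + x * y ^ 4) * h5

theorem e_conj (h5 : (5 : F) = 0) (θ : F) (hθ : θ ^ 2 = 2) (x : ℕ) :
    e θ (conjN x) = (e θ x) ^ 5 := by
  unfold conjN
  rw [e_pair h5 θ _ _ (Nat.mod_lt _ (by norm_num)), cast_mod5 h5, cast_mod5 h5]
  unfold e
  rw [add_pow_five h5, mul_pow, cast_mod5 h5, nat_pow_five h5, nat_pow_five h5]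
  have h : θ ^ 5 = 4 * θ := by
    linear_combination (θ ^ 3 + 2 * θ) * hθ
  rw [h]
  push_cast
  ring

theorem exists_theta [Fintype F] (hF : Fintype.card F = 25) :
    (5 : F) = 0 ∧ ∃ θ : F, θ ^ 2 = 2 := by
  have h25 : ((25 : ℕ) : F) = 0 := by rw [← hF]; exact FiniteField.cast_card_eq_zero F
  have h5 : (5 : F) = 0 := by
    have h : (5 : F) * 5 = 0 := by push_cast at h25; linear_combination h25
    simpa using h
  refine ⟨h5, ?_⟩
  have hodd : ringChar F ≠ 2 := by
    intro h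
    have h2 : ((2 : ℕ) : F) = 0 := by
      rw [← h]; exact ringChar.Nat.cast_ringChar
    push_cast at h2
    have : (1 : F) = 0 := by linear_combination h5 - 2 * h2
    exact one_ne_zero this
  have h2 : (2 : F) ≠ 0 := by
    intro h2
    have : (1 : F) = 0 := by linear_combination h5 - 2 * h2
    exact one_ne_zero this
  have hs : IsSquare (2 : F) := by
    rw [FiniteField.isSquare_iff hodd h2, hF]
    norm_num
    linear_combination (819 : F) * h5
  obtain ⟨r, hr⟩ := hs
  exact ⟨r, by rw [hr]; ring⟩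

theorem cast_inj5 (h5 : (5 : F) = 0) {a b : ℕ} (ha : a < 5) (hb : b < 5)
    (h : (a : F) = b) : a = b := by
  have key : ∀ k : ℕ, k < 5 → (k : F) = 0 → k = 0 := by
    intro k hk h0
    by_contra hne
    have h1 : (1 : F) = 0 := by
      interval_cases k
      · exact absurd rfl hne
      · push_cast at h0; exact h0
      · push_cast at h0; linear_combination h5 - 2 * h0
      · push_cast at h0; linear_combination 2 * h0 - h5
      · push_cast at h0; linear_combination h5 - h0
    exact one_ne_zero h1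
  rcases le_total a b with hab | hab
  · have : ((b - a : ℕ) : F) = 0 := by rw [Nat.cast_sub hab, h]; ring
    have := key _ (by omega) this
    omega
  · have : ((a - b : ℕ) : F) = 0 := by rw [Nat.cast_sub hab, h]; ring
    have := key _ (by omega) this
    omega

theorem no_nat_sqrt_two (h5 : (5 : F) = 0) (k : ℕ) : (k : F) ^ 2 ≠ 2 := by
  rw [← cast_mod5 h5 k]
  have h : k % 5 < 5 := Nat.mod_lt _ (by norm_num)
  intro h0
  have h1 : (1 : F) = 0 := by
    interval_cases (k % 5)
    · push_cast at h0; linear_combination h5 + 2 * h0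
    · push_cast at h0; linear_combination - h0
    · push_cast at h0; linear_combination 3 * h0 - h5
    · push_cast at h0; linear_combination 3 * h0 - 4 * h5
    · push_cast at h0; linear_combination -h0 + 3 * h5
  exact one_ne_zero h1

theorem e_inj (h5 : (5 : F) = 0) (θ : F) (hθ : θ ^ 2 = 2) {x y : ℕ} (hx : x < 25) (hy : y < 25)
    (h : e θ x = e θ y) : x = y := by
  unfold e at h
  have hx5 : x / 5 < 5 := by omega
  have hy5 : y / 5 < 5 := by omega
  have hxm : x % 5 < 5 := by omega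
  have hym : y % 5 < 5 := by omega
  by_cases hd : x / 5 = y / 5
  · rw [hd] at h
    have := cast_inj5 h5 hxm hym (add_right_cancel h)
    omega
  · exfalso
    -- θ is in the prime field
    have hne : ((x / 5 : ℕ) : F) - ((y / 5 : ℕ) : F) ≠ 0 := by
      intro h0
      exact hd (cast_inj5 h5 hx5 hy5 (sub_eq_zero.mp h0))
    set A : ℕ := x / 5 + 4 * (y / 5) with hA
    set B : ℕ := y % 5 + 4 * (x % 5) with hB
    have hAF : ((A : ℕ) : F) = ((x / 5 : ℕ) : F) - ((y / 5 : ℕ) : F) := by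
      rw [hA]; push_cast; linear_combination ((y / 5 : ℕ) : F) * h5
    have hBF : ((B : ℕ) : F) = ((y % 5 : ℕ) : F) - ((x % 5 : ℕ) : F) := by
      rw [hB]; push_cast; linear_combination ((x % 5 : ℕ) : F) * h5
    have hAB : (A : F) * θ = B := by
      rw [hAF, hBF]; linear_combination h
    have hA4 : (A : F) ^ 4 = 1 := by
      have h1 := nat_pow_five h5 A
      have h2 : (A : F) ≠ 0 := by rw [hAF]; exact hne
      have h3 : (A : F) * ((A : F) ^ 4 - 1) = 0 := by linear_combination h1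
      rcases mul_eq_zero.mp h3 with h4 | h4
      · exact absurd h4 h2
      · linear_combination h4
    have hθB : θ = ((A ^ 3 * B : ℕ) : F) := by
      push_cast
      linear_combination (A : F) ^ 3 * hAB - θ * hA4
    apply no_nat_sqrt_two h5 (A ^ 3 * B)
    rw [← hθB]; exact hθ

/-- The coding of the field of order 25. -/
noncomputable def E [Fintype F] (hF : Fintype.card F = 25) (h5 : (5 : F) = 0) (θ : F) (hθ : θ ^ 2 = 2) :
    Fin 25 ≃ F :=
  Equiv.ofBijective (fun n : Fin 25 => e θ (n : ℕ)) (by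
    rw [Fintype.bijective_iff_injective_and_card]
    refine ⟨fun x y h => ?_, ?_⟩
    · exact Fin.ext (e_inj h5 θ hθ x.2 y.2 h)
    · rw [hF]; simp)

theorem E_apply [Fintype F] (hF : Fintype.card F = 25) (h5 : (5 : F) = 0) (θ : F) (hθ : θ ^ 2 = 2)
    (n : Fin 25) : E hF h5 θ hθ n = e θ (n : ℕ) := rfl

theorem E_symm_e [Fintype F] (hF : Fintype.card F = 25) (h5 : (5 : F) = 0) (θ : F) (hθ : θ ^ 2 = 2)
    {n : ℕ} (hn : n < 25) : ((E hF h5 θ hθ).symm (e θ n) : ℕ) = n := by
  have : e θ n = E hF h5 θ hθ ⟨n, hn⟩ := rfl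
  rw [this, Equiv.symm_apply_apply]

theorem exists_code [Fintype F] (hF : Fintype.card F = 25) (h5 : (5 : F) = 0) (θ : F) (hθ : θ ^ 2 = 2)
    (x : F) : ∃ n : ℕ, n < 25 ∧ e θ n = x := by
  refine ⟨(E hF h5 θ hθ).symm x, ((E hF h5 θ hθ).symm x).2, ?_⟩
  have := (E hF h5 θ hθ).apply_symm_apply x
  exact this

theorem mulN_invN : ∀ x < 25, x ≠ 0 → mulN x (invN x) = 1 := by decide

theorem e_inv (h5 : (5 : F) = 0) (θ : F) (hθ : θ ^ 2 = 2) {x : ℕ} (hx : x < 25) (h0 : x ≠ 0) :
    e θ (invN x) = (e θ x)⁻¹ := by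
  have h := mulN_invN x hx h0
  have h2 : e θ x * e θ (invN x) = 1 := by
    rw [← e_mul h5 θ hθ, h, e_one]
  exact eq_inv_of_mul_eq_one_right h2

theorem e_ne_zero (h5 : (5 : F) = 0) (θ : F) (hθ : θ ^ 2 = 2) {x : ℕ} (hx : x < 25) (h0 : x ≠ 0) :
    e θ x ≠ 0 := by
  intro h
  apply h0
  apply e_inj h5 θ hθ hx (by norm_num)
  rw [h, e_zero]

end

end Cfsg.Agent.SporStruct.U35Field
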