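/-
The special unitary group SU(3,5): upper bound for the order, elements given by tables.
-/
import Mathlib
import Cfsg.Prelude.Def_Classical
import Cfsg.Agent.SporStruct.U35Field
import Cfsg.Agent.SporStruct.U35Table

set_option autoImplicit false

namespace Cfsg.Agent.SporStruct.U35SU

open Cfsg Matrix
open Cfsg.Agent.SporStruct.U35Field Cfsg.Agent.SporStruct.U35Table

variable {F : Type} [Field F]

/-- the matrix of an element of SU(3,5) -/
def mat (g : SU 3 F 5) : Matrix (Fin 3) (Fin 3) F :=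
  ((g : Matrix.SpecialLinearGroup (Fin 3) F) : Matrix (Fin 3) (Fin 3) F)

theorem mat_mul (g h : SU 3 F 5) : mat (g * h) = mat g * mat h := rfl
theorem mat_one : mat (1 : SU 3 F 5) = 1 := rfl
theorem mat_det (g : SU 3 F 5) : (mat g).det = 1 := g.1.2
theorem mat_herm (g : SU 3 F 5) (u v : Fin 3 → F) :
    hermForm 3 F 5 (mat g *ᵥ u) (mat g *ᵥ v) = hermForm 3 F 5 u v := g.2 u v
theorem mat_inj {g h : SU 3 F 5} (H : mat g = mat h) : g = h :=
  Subtype.ext (Subtype.ext H)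
theorem mat_inv_mulVec (g : SU 3 F 5) (u : Fin 3 → F) : mat g⁻¹ *ᵥ (mat g *ᵥ u) = u := by
  rw [Matrix.mulVec_mulVec, ← mat_mul, inv_mul_cancel, mat_one, Matrix.one_mulVec]
theorem mat_mulVec_inv (g : SU 3 F 5) (u : Fin 3 → F) : mat g *ᵥ (mat g⁻¹ *ᵥ u) = u := by
  rw [Matrix.mulVec_mulVec, ← mat_mul, mul_inv_cancel, mat_one, Matrix.one_mulVec]
theorem mat_mul_mulVec (g h : SU 3 F 5) (u : Fin 3 → F) :
    mat (g * h) *ᵥ u = mat g *ᵥ (mat h *ᵥ u) := by
  rw [Matrix.mulVec_mulVec, ← mat_mul]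

/-- standard basis vectors -/
def e1 : Fin 3 → F := ![1, 0, 0]
def e2 : Fin 3 → F := ![0, 1, 0]
def e3 : Fin 3 → F := ![0, 0, 1]

theorem mulVec_e1 (M : Matrix (Fin 3) (Fin 3) F) : M *ᵥ e1 = ![M 0 0, M 1 0, M 2 0] := by
  funext i; fin_cases i <;> simp [e1, Matrix.mulVec, dotProduct, Fin.sum_univ_three]
theorem mulVec_e2 (M : Matrix (Fin 3) (Fin 3) F) : M *ᵥ e2 = ![M 0 1, M 1 1, M 2 1] := by
  funext i; fin_cases i <;> simp [e2, Matrix.mulVec, dotProduct, Fin.sum_univ_three]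
theorem mulVec_e3 (M : Matrix (Fin 3) (Fin 3) F) : M *ᵥ e3 = ![M 0 2, M 1 2, M 2 2] := by
  funext i; fin_cases i <;> simp [e3, Matrix.mulVec, dotProduct, Fin.sum_univ_three]

theorem herm_e1 (u : Fin 3 → F) : hermForm 3 F 5 e1 u = u 0 ^ 5 := by
  simp [hermForm, e1, Fin.sum_univ_three]
theorem herm_e2 (u : Fin 3 → F) : hermForm 3 F 5 e2 u = u 1 ^ 5 := by
  simp [hermForm, e2, Fin.sum_univ_three]

/-- an element of SU(3,5) fixing the first two basis vectors is the identity -/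
theorem eq_one_of_fix (g : SU 3 F 5) (h1 : mat g *ᵥ e1 = e1) (h2 : mat g *ᵥ e2 = e2) : g = 1 := by
  have h3 := mat_herm g e1 e3
  have h4 := mat_herm g e2 e3
  rw [h1, herm_e1, herm_e1] at h3
  rw [h2, herm_e2, herm_e2] at h4
  have a0 : (mat g *ᵥ e3) 0 = 0 := by
    have : (mat g *ᵥ e3) 0 ^ 5 = 0 := by rw [h3]; simp [e3]
    exact pow_eq_zero_iff (by norm_num) |>.mp this
  have a1 : (mat g *ᵥ e3) 1 = 0 := by
    have : (mat g *ᵥ e3) 1 ^ 5 = 0 := by rw [h4]; simp [e3]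
    exact pow_eq_zero_iff (by norm_num) |>.mp this
  rw [mulVec_e3] at a0 a1
  rw [mulVec_e1] at h1
  rw [mulVec_e2] at h2
  have b0 : mat g 0 0 = 1 := by simpa [e1] using congrFun h1 0
  have b1 : mat g 1 0 = 0 := by simpa [e1] using congrFun h1 1
  have b2 : mat g 2 0 = 0 := by simpa [e1] using congrFun h1 2
  have c0 : mat g 0 1 = 0 := by simpa [e2] using congrFun h2 0
  have c1 : mat g 1 1 = 1 := by simpa [e2] using congrFun h2 1
  have c2 : mat g 2 1 = 0 := by simpa [e2] using congrFun h2 2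
  have d0 : mat g 0 2 = 0 := by simpa using a0
  have d1 : mat g 1 2 = 0 := by simpa using a1
  have d2 : mat g 2 2 = 1 := by
    have := mat_det g
    rw [Matrix.det_fin_three, b0, b1, b2, c0, c1, c2, d0, d1] at this
    simpa using this
  apply mat_inj
  rw [mat_one]
  ext i j
  fin_cases i <;> fin_cases j <;> simp [b0, b1, b2, c0, c1, c2, d0, d1, d2]

/-- unit vectors -/
def X (F : Type) [Field F] : Type := {u : Fin 3 → F // hermForm 3 F 5 u u = 1}
/-- unit vectors orthogonal to the first basis vector -/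
def Y (F : Type) [Field F] : Type := {u : Fin 3 → F // u 0 = 0 ∧ hermForm 3 F 5 u u = 1}

instance instFiniteX [Finite F] : Finite (X F) := Subtype.finite
instance instFiniteY [Finite F] : Finite (Y F) := Subtype.finite

theorem herm_e1_e1 : hermForm 3 F 5 e1 e1 = 1 := by rw [herm_e1]; simp [e1]
theorem herm_e2_e2 : hermForm 3 F 5 e2 e2 = 1 := by rw [herm_e2]; simp [e2]
theorem herm_e1_e2 : hermForm 3 F 5 e1 e2 = 0 := by rw [herm_e1]; simp [e2]

theorem card_SU_le [Finite F] : Nat.card (SU 3 F 5) ≤ Nat.card (X F) * Nat.card (Y F) := by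
  classical
  -- transport elements
  have ht : ∀ x : X F, ∃ t : SU 3 F 5, (∃ s : SU 3 F 5, mat s *ᵥ e1 = x.1) → mat t *ᵥ e1 = x.1 := by
    intro x
    by_cases h : ∃ s : SU 3 F 5, mat s *ᵥ e1 = x.1
    · obtain ⟨s, hs⟩ := h
      exact ⟨s, fun _ => hs⟩
    · exact ⟨1, fun h' => absurd h' h⟩
  choose t ht using ht
  let x : SU 3 F 5 → X F := fun g => ⟨mat g *ᵥ e1, by rw [mat_herm, herm_e1_e1]⟩
  have hx : ∀ g, mat (t (x g)) *ᵥ e1 = mat g *ᵥ e1 := fun g => ht (x g) ⟨g, rfl⟩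
  have hfix : ∀ g, mat ((t (x g))⁻¹ * g) *ᵥ e1 = e1 := by
    intro g
    rw [mat_mul_mulVec, ← hx g, mat_inv_mulVec]
  let f : SU 3 F 5 → X F × Y F := fun g => (x g, ⟨mat ((t (x g))⁻¹ * g) *ᵥ e2, by
    constructor
    · have h := mat_herm ((t (x g))⁻¹ * g) e1 e2
      rw [hfix g, herm_e1_e2, herm_e1] at h
      exact pow_eq_zero_iff (by norm_num) |>.mp h
    · rw [mat_herm, herm_e2_e2]⟩)
  have hf : Function.Injective f := by
    intro g h hgh
    have h1 : x g = x h := congrArg Prod.fst hgh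
    have h2 : mat ((t (x g))⁻¹ * g) *ᵥ e2 = mat ((t (x h))⁻¹ * h) *ᵥ e2 :=
      congrArg Subtype.val (congrArg Prod.snd hgh)
    rw [← h1] at h2
    have h3 : mat g *ᵥ e2 = mat h *ᵥ e2 := by
      have h4 := congrArg (fun v => mat (t (x g)) *ᵥ v) h2
      simp only [mat_mul_mulVec, mat_mulVec_inv] at h4
      exact h4
    have h5 : mat g *ᵥ e1 = mat h *ᵥ e1 := congrArg Subtype.val h1
    have h6 : g⁻¹ * h = 1 := by
      apply eq_one_of_fix
      · rw [mat_mul_mulVec, ← h5, mat_inv_mulVec]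
      · rw [mat_mul_mulVec, ← h3, mat_inv_mulVec]
    exact (inv_mul_eq_one.mp h6)
  calc Nat.card (SU 3 F 5) ≤ Nat.card (X F × Y F) := Nat.card_le_card_of_injective f hf
    _ = Nat.card (X F) * Nat.card (Y F) := Nat.card_prod _ _

/-- norm of a code, modulo 5 -/
def nmN (a : ℕ) : ℕ := ((a % 5) * (a % 5) + 3 * ((a / 5) * (a / 5))) % 5

theorem e_mul_pow (h5 : (5 : F) = 0) (θ : F) (hθ : θ ^ 2 = 2) (a : ℕ) :
    e θ a * (e θ a) ^ 5 = ((nmN a : ℕ) : F) := by
  have h1 : ((nmN a : ℕ) : F) = ((a % 5 : ℕ) : F) ^ 2 + 3 * ((a / 5 : ℕ) : F) ^ 2 := by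
    unfold nmN
    rw [cast_mod5 h5]; push_cast; ring
  have h2 : (e θ a) ^ 5 = ((a % 5 : ℕ) : F) + 4 * ((a / 5 : ℕ) : F) * θ := by
    rw [← e_conj h5 θ hθ]
    unfold conjN
    rw [e_pair h5 θ _ _ (Nat.mod_lt _ (by norm_num)), cast_mod5 h5 (4 * (a / 5))]
    push_cast; ring
  rw [h1, h2]
  unfold e
  linear_combination (4 * ((a / 5 : ℕ) : F) ^ 2) * hθ +
    (((a % 5 : ℕ) : F) * ((a / 5 : ℕ) : F) * θ + ((a / 5 : ℕ) : F) ^ 2) * h5

theorem herm_vec (h5 : (5 : F) = 0) (θ : F) (hθ : θ ^ 2 = 2) (a b c : ℕ) :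
    hermForm 3 F 5 ![e θ a, e θ b, e θ c] ![e θ a, e θ b, e θ c] =
      ((nmN a + nmN b + nmN c : ℕ) : F) := by
  unfold hermForm
  rw [Fin.sum_univ_three]
  simp only [Matrix.cons_val_zero, Matrix.cons_val_one, Matrix.cons_val]
  rw [e_mul_pow h5 θ hθ, e_mul_pow h5 θ hθ, e_mul_pow h5 θ hθ]
  push_cast; ring

theorem cast_eq_one_iff (h5 : (5 : F) = 0) (n : ℕ) : ((n : F) = 1) ↔ n % 5 = 1 := by
  constructor
  · intro h
    rw [← cast_mod5 h5] at h
    exact cast_inj5 h5 (Nat.mod_lt _ (by norm_num)) (by norm_num) (by rw [h]; simp)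
  · intro h
    rw [← cast_mod5 h5, h]; simp

theorem cnt_check : (∑ a : Fin 25, Fintype.card {p : Fin 25 × Fin 25 // (nmN a + nmN p.1 + nmN p.2) % 5 = 1}) = 3150 := by
  decide +kernel

theorem cnt_check2 : Fintype.card {p : Fin 25 × Fin 25 // (nmN p.1 + nmN p.2) % 5 = 1} = 120 := by
  decide +kernel

section count
variable [Fintype F] (hF : Fintype.card F = 25)

include hF

theorem card_X : Nat.card (X F) = 3150 := by
  obtain ⟨h5, θ, hθ⟩ := exists_theta hF
  let E' := E hF h5 θ hθ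
  have hE : ∀ n : Fin 25, E' n = e θ (n : ℕ) := fun n => rfl
  let φ : (Σ a : Fin 25, {p : Fin 25 × Fin 25 // (nmN a + nmN p.1 + nmN p.2) % 5 = 1}) → X F :=
    fun t => ⟨![e θ t.1, e θ t.2.1.1, e θ t.2.1.2], by
      rw [herm_vec h5 θ hθ, cast_eq_one_iff h5]; exact t.2.2⟩
  have hφ : Function.Bijective φ := by
    constructor
    · rintro ⟨a, ⟨b, c⟩, h⟩ ⟨a', ⟨b', c'⟩, h'⟩ hh
      have h1 : (![e θ (a : ℕ), e θ (b : ℕ), e θ (c : ℕ)] : Fin 3 → F) = ![e θ a', e θ b', e θ c'] :=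
        congrArg Subtype.val hh
      have ha : a = a' := by
        have := congrFun h1 0
        simp only [Matrix.cons_val_zero] at this
        exact Fin.ext (e_inj h5 θ hθ a.2 a'.2 this)
      have hb : b = b' := by
        have := congrFun h1 1
        simp only [Matrix.cons_val_one, Matrix.cons_val_zero] at this
        exact Fin.ext (e_inj h5 θ hθ b.2 b'.2 this)
      have hc : c = c' := by
        have := congrFun h1 2
        simp only [Matrix.cons_val] at this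
        exact Fin.ext (e_inj h5 θ hθ c.2 c'.2 this)
      subst ha hb hc
      rfl
    · rintro ⟨u, hu⟩
      obtain ⟨a, ha, hau⟩ := exists_code hF h5 θ hθ (u 0)
      obtain ⟨b, hb, hbu⟩ := exists_code hF h5 θ hθ (u 1)
      obtain ⟨c, hc, hcu⟩ := exists_code hF h5 θ hθ (u 2)
      have hv : u = ![e θ a, e θ b, e θ c] := by
        funext i; fin_cases i <;> simp [hau, hbu, hcu]
      refine ⟨⟨⟨a, ha⟩, ⟨⟨⟨b, hb⟩, ⟨c, hc⟩⟩, ?_⟩⟩, ?_⟩
      · have := hu
        rw [hv, herm_vec h5 θ hθ, cast_eq_one_iff h5] at this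
        exact this
      · apply Subtype.ext
        exact hv.symm
  rw [← Nat.card_congr (Equiv.ofBijective φ hφ), Nat.card_eq_fintype_card, Fintype.card_sigma]
  exact cnt_check

theorem card_Y : Nat.card (Y F) = 120 := by
  obtain ⟨h5, θ, hθ⟩ := exists_theta hF
  let φ : {p : Fin 25 × Fin 25 // (nmN p.1 + nmN p.2) % 5 = 1} → Y F :=
    fun t => ⟨![0, e θ t.1.1, e θ t.1.2], by
      refine ⟨rfl, ?_⟩
      have h0 : (0 : F) = e θ 0 := (e_zero θ).symm
      rw [h0, herm_vec h5 θ hθ, cast_eq_one_iff h5]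
      have := t.2
      simpa [nmN] using this⟩
  have hφ : Function.Bijective φ := by
    constructor
    · rintro ⟨⟨b, c⟩, h⟩ ⟨⟨b', c'⟩, h'⟩ hh
      have h1 : (![0, e θ (b : ℕ), e θ (c : ℕ)] : Fin 3 → F) = ![0, e θ b', e θ c'] :=
        congrArg Subtype.val hh
      have hb : b = b' := by
        have := congrFun h1 1
        simp only [Matrix.cons_val_one, Matrix.cons_val_zero] at this
        exact Fin.ext (e_inj h5 θ hθ b.2 b'.2 this)
      have hc : c = c' := by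
        have := congrFun h1 2
        simp only [Matrix.cons_val] at this
        exact Fin.ext (e_inj h5 θ hθ c.2 c'.2 this)
      subst hb hc
      rfl
    · rintro ⟨u, hu0, hu⟩
      obtain ⟨b, hb, hbu⟩ := exists_code hF h5 θ hθ (u 1)
      obtain ⟨c, hc, hcu⟩ := exists_code hF h5 θ hθ (u 2)
      have hv : u = ![e θ 0, e θ b, e θ c] := by
        funext i; fin_cases i <;> simp [hbu, hcu, hu0, e_zero]
      refine ⟨⟨⟨⟨b, hb⟩, ⟨c, hc⟩⟩, ?_⟩, ?_⟩
      · have := hu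
        rw [hv, herm_vec h5 θ hθ, cast_eq_one_iff h5] at this
        simpa [nmN] using this
      · apply Subtype.ext
        rw [e_zero] at hv
        exact hv.symm
  rw [← Nat.card_congr (Equiv.ofBijective φ hφ), Nat.card_eq_fintype_card]
  exact cnt_check2

theorem card_SU_le' : Nat.card (SU 3 F 5) ≤ 378000 := by
  have h := card_SU_le (F := F)
  rw [card_X hF, card_Y hF] at h
  exact h

end count

end Cfsg.Agent.SporStruct.U35SU
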