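/-
The incidence of points of the plane over the field of order 25 with the 50 vertices of the
Hoffman-Singleton graph, and the group of compatible pairs (matrix, permutation).
-/
import Mathlib
import Cfsg.Prelude.Def_Classical
import Cfsg.Agent.SporStruct.U35Field
import Cfsg.Agent.SporStruct.U35Table
import Cfsg.Agent.SporStruct.U35SU

set_option autoImplicit false

namespace Cfsg.Agent.SporStruct.U35Col

open Cfsg Matrix
open Cfsg.Agent.SporStruct.U35Field Cfsg.Agent.SporStruct.U35Table Cfsg.Agent.SporStruct.U35SU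

variable {F : Type} [Field F]

open Classical in
/-- the mask of a vector with coordinates `x y z` -/
noncomputable def Mk3 (E' : Fin 25 ≃ F) (x y z : F) : ℕ :=
  if x = 0 then
    (if y = 0 then (if z = 0 then 0 else entry 650)
      else entry (625 + (E'.symm (z / y) : ℕ)))
  else entry (25 * (E'.symm (y / x) : ℕ) + (E'.symm (z / x) : ℕ))

theorem Mk3_smul (E' : Fin 25 ≃ F) (l : F) (hl : l ≠ 0) (x y z : F) :
    Mk3 E' (l * x) (l * y) (l * z) = Mk3 E' x y z := by
  unfold Mk3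
  rw [mul_div_mul_left _ _ hl, mul_div_mul_left _ _ hl, mul_div_mul_left _ _ hl]
  by_cases hx : x = 0
  · have hx' : l * x = 0 := by rw [hx, mul_zero]
    rw [if_pos hx, if_pos hx']
    by_cases hy : y = 0
    · have hy' : l * y = 0 := by rw [hy, mul_zero]
      rw [if_pos hy, if_pos hy']
      by_cases hz : z = 0
      · have hz' : l * z = 0 := by rw [hz, mul_zero]
        rw [if_pos hz, if_pos hz']
      · rw [if_neg hz, if_neg (mul_ne_zero hl hz)]
    · rw [if_neg hy, if_neg (mul_ne_zero hl hy)]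
  · rw [if_neg hx, if_neg (mul_ne_zero hl hx)]

/-- the mask of a vector -/
noncomputable def Mk (E' : Fin 25 ≃ F) (u : Fin 3 → F) : ℕ := Mk3 E' (u 0) (u 1) (u 2)

theorem Mk_smul (E' : Fin 25 ≃ F) (l : F) (hl : l ≠ 0) (u : Fin 3 → F) :
    Mk E' (l • u) = Mk E' u := Mk3_smul E' l hl _ _ _

theorem Mk_zero (E' : Fin 25 ≃ F) : Mk E' 0 = 0 := by
  unfold Mk Mk3; simp

section
variable [Fintype F] (hF : Fintype.card F = 25) (h5 : (5 : F) = 0) (θ : F) (hθ : θ ^ 2 = 2)

/-- vector with given codes -/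
def vec (θ : F) (a b c : ℕ) : Fin 3 → F := ![e θ a, e θ b, e θ c]

theorem Mk_vec {a b c : ℕ} (ha : a < 25) (hb : b < 25) (hc : c < 25) :
    Mk (E hF h5 θ hθ) (vec θ a b c) = colN a b c := by
  change Mk3 (E hF h5 θ hθ) (e θ a) (e θ b) (e θ c) = colN a b c
  unfold Mk3 colN
  have key : ∀ x < 25, ∀ y < 25, x ≠ 0 →
      ((E hF h5 θ hθ).symm (e θ y / e θ x) : ℕ) = mulN y (invN x) := by
    intro x hx y hy hx0
    rw [div_eq_mul_inv, ← e_inv h5 θ hθ hx hx0, ← e_mul h5 θ hθ]
    exact E_symm_e hF h5 θ hθ (mulN_lt _ _)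
  by_cases ha0 : a = 0
  · subst ha0
    rw [if_pos (e_zero θ)]
    by_cases hb0 : b = 0
    · subst hb0
      rw [if_pos (e_zero θ)]
      by_cases hc0 : c = 0
      · subst hc0
        rw [if_pos (e_zero θ)]
        rfl
      · rw [if_neg (e_ne_zero h5 θ hθ hc hc0)]
        have : Nat.beq c 0 = false := by
          cases c with
          | zero => exact absurd rfl hc0
          | succ n => rfl
        rw [this]; rfl
    · rw [if_neg (e_ne_zero h5 θ hθ hb hb0), key b hb c hc hb0]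
      have : Nat.beq b 0 = false := by
        cases b with
        | zero => exact absurd rfl hb0
        | succ n => rfl
      rw [this]; rfl
  · rw [if_neg (e_ne_zero h5 θ hθ ha ha0), key a ha b hb ha0, key a ha c hc ha0]
    have : Nat.beq a 0 = false := by
      cases a with
      | zero => exact absurd rfl ha0
      | succ n => rfl
    rw [this]; rfl

/-- the matrix with given codes -/
def matF (θ : F) (m : Mat3) : Matrix (Fin 3) (Fin 3) F :=
  !![e θ m.a, e θ m.b, e θ m.c; e θ m.d, e θ m.e, e θ m.f; e θ m.g, e θ m.h, e θ m.i]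

omit [Fintype F] in
include h5 hθ in
theorem matF_mulVec (m : Mat3) (a b c : ℕ) :
    matF θ m *ᵥ vec θ a b c = vec θ (rowN m.a m.b m.c a b c) (rowN m.d m.e m.f a b c)
      (rowN m.g m.h m.i a b c) := by
  have hr : ∀ x y z : ℕ, e θ (rowN x y z a b c) = e θ x * e θ a + e θ y * e θ b + e θ z * e θ c := by
    intro x y z
    unfold rowN
    rw [e_add h5, e_add h5, e_mul h5 θ hθ, e_mul h5 θ hθ, e_mul h5 θ hθ]
  unfold vec
  rw [hr, hr, hr]
  funext i
  fin_cases i <;> simp [matF, Matrix.mulVec, dotProduct, Fin.sum_univ_three]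

include hF h5 hθ in
theorem exists_vec (u : Fin 3 → F) :
    ∃ a b c : ℕ, a < 25 ∧ b < 25 ∧ c < 25 ∧ u = vec θ a b c := by
  obtain ⟨a, ha, hau⟩ := exists_code hF h5 θ hθ (u 0)
  obtain ⟨b, hb, hbu⟩ := exists_code hF h5 θ hθ (u 1)
  obtain ⟨c, hc, hcu⟩ := exists_code hF h5 θ hθ (u 2)
  refine ⟨a, b, c, ha, hb, hc, ?_⟩
  funext i; fin_cases i <;> simp [vec, hau, hbu, hcu]

include hF h5 hθ in
/-- every nonzero vector is a multiple of a normalised one -/
theorem exists_rep (u : Fin 3 → F) (hu : u ≠ 0) :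
    ∃ (l : F) (a b c : ℕ), l ≠ 0 ∧ u = l • vec θ a b c ∧
      ((a = 1 ∧ b < 25 ∧ c < 25) ∨ (a = 0 ∧ b = 1 ∧ c < 25) ∨ (a = 0 ∧ b = 0 ∧ c = 1)) := by
  by_cases h0 : u 0 = 0
  · by_cases h1 : u 1 = 0
    · have h2 : u 2 ≠ 0 := by
        intro h2
        apply hu
        funext i; fin_cases i <;> simp [h0, h1, h2]
      refine ⟨u 2, 0, 0, 1, h2, ?_, Or.inr (Or.inr ⟨rfl, rfl, rfl⟩)⟩
      funext i; fin_cases i <;> simp [vec, e_zero, e_one, h0, h1]
    · obtain ⟨c, hc, hcu⟩ := exists_code hF h5 θ hθ (u 2 / u 1)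
      refine ⟨u 1, 0, 1, c, h1, ?_, Or.inr (Or.inl ⟨rfl, rfl, hc⟩)⟩
      funext i; fin_cases i <;> simp [vec, e_zero, e_one, h0, hcu, mul_div_cancel₀ _ h1]
  · obtain ⟨b, hb, hbu⟩ := exists_code hF h5 θ hθ (u 1 / u 0)
    obtain ⟨c, hc, hcu⟩ := exists_code hF h5 θ hθ (u 2 / u 0)
    refine ⟨u 0, 1, b, c, h0, ?_, Or.inl ⟨rfl, hb, hc⟩⟩
    funext i; fin_cases i <;> simp [vec, e_one, hbu, hcu, mul_div_cancel₀ _ h0]

theorem chkMask_spec {P M' M : ℕ} (h : chkMask P M' M = true) (j : ℕ) (hj : j < 50) :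
    bt M' (papp P j) = bt M j := by
  unfold chkMask at h
  rw [force_eq, force_eq] at h
  exact Nat.eq_of_beq_eq_true (allLt_spec _ _ h j hj)

theorem rowN_lt (x y z a b c : ℕ) : rowN x y z a b c < 25 := addN_lt _ _

theorem chkPt_spec {m : Mat3} {P a b c : ℕ} (h : chkPt m P a b c = true)
    (ha : a < 25) (hb : b < 25) (hc : c < 25) (j : ℕ) (hj : j < 50) :
    bt (Mk (E hF h5 θ hθ) (matF θ m *ᵥ vec θ a b c)) (papp P j) =
      bt (Mk (E hF h5 θ hθ) (vec θ a b c)) j := by
  unfold chkPt at h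
  rw [force_eq, force_eq, force_eq] at h
  rw [matF_mulVec h5 θ hθ, Mk_vec hF h5 θ hθ (rowN_lt _ _ _ _ _ _) (rowN_lt _ _ _ _ _ _)
    (rowN_lt _ _ _ _ _ _), Mk_vec hF h5 θ hθ ha hb hc]
  exact chkMask_spec h j hj

theorem bt_zero (j : ℕ) : bt 0 j = 0 := by simp [bt]

theorem chkGen_spec {m : Mat3} {P : ℕ} (h : chkGen m P = true) (u : Fin 3 → F) (j : ℕ)
    (hj : j < 50) :
    bt (Mk (E hF h5 θ hθ) (matF θ m *ᵥ u)) (papp P j) = bt (Mk (E hF h5 θ hθ) u) j := by
  unfold chkGen at h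
  rw [Bool.and_eq_true, Bool.and_eq_true] at h
  obtain ⟨h1, h2, h3⟩ := h
  by_cases hu : u = 0
  · subst hu
    rw [Matrix.mulVec_zero, Mk_zero, bt_zero, bt_zero]
  · obtain ⟨l, a, b, c, hl, hul, hcase⟩ := exists_rep hF h5 θ hθ u hu
    rw [hul, Matrix.mulVec_smul, Mk_smul _ _ hl, Mk_smul _ _ hl]
    rcases hcase with ⟨rfl, hb, hc⟩ | ⟨rfl, rfl, hc⟩ | ⟨rfl, rfl, rfl⟩
    · exact chkPt_spec hF h5 θ hθ (allLt_spec _ _ (allLt_spec _ _ h1 b hb) c hc)
        (by norm_num) hb hc j hj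
    · exact chkPt_spec hF h5 θ hθ (allLt_spec _ _ h2 c hc) (by norm_num) (by norm_num) hc j hj
    · exact chkPt_spec hF h5 θ hθ h3 (by norm_num) (by norm_num) (by norm_num) j hj

end

/-- separation of the vertices by the masks: `sep j` is the conjunction of the masks containing `j` -/
def sepChk : Bool :=
  allLt (fun j => allLt (fun k => or (Nat.beq j k)
    (not (allLt (fun i => or (Nat.beq (bt (entry i) j) 0) (Nat.beq (bt (entry i) k) 1)) 625))) 50) 50

theorem sepChk_true : sepChk = true := by decide +kernel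

/-- masks determining the four points e1, e2, e3, (1,1,1) -/
def uniqChk (k : ℕ) : Bool :=
  force (entry k) fun M => allLt (fun i => or (Nat.beq i k) (not (Nat.beq (entry i) M))) 651

theorem uniq1 : uniqChk 0 = true := by decide +kernel
theorem uniq2 : uniqChk 625 = true := by decide +kernel
theorem uniq3 : uniqChk 650 = true := by decide +kernel
theorem uniq4 : uniqChk 26 = true := by decide +kernel

end Cfsg.Agent.SporStruct.U35Col
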