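/-
The permutation group K50 of degree 50 (isomorphic to PSU(3,5)), generated by six explicit automorphisms
of the Hoffman-Singleton graph: lower bound 126000 for the order, trivial centraliser.
-/
import Mathlib
import Cfsg.Agent.SporStruct.U35Table

set_option autoImplicit false

namespace Cfsg.Agent.SporStruct.U35K50

open Cfsg.Agent.SporStruct.U35Table

/-- generator 0 -/
def s0 : Equiv.Perm (Fin 50) := mkPerm P0 Q0 cP0
/-- generator 1 -/
def s1 : Equiv.Perm (Fin 50) := mkPerm P1 Q1 cP1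
/-- generator 2 -/
def s2 : Equiv.Perm (Fin 50) := mkPerm P2 Q2 cP2
/-- generator 3 -/
def s3 : Equiv.Perm (Fin 50) := mkPerm P3 Q3 cP3
/-- generator 4 -/
def s4 : Equiv.Perm (Fin 50) := mkPerm P4 Q4 cP4
/-- generator 5 -/
def s5 : Equiv.Perm (Fin 50) := mkPerm P5 Q5 cP5

/-- the group -/
def K50 : Subgroup (Equiv.Perm (Fin 50)) := Subgroup.closure {s0, s1, s2, s3, s4, s5}

theorem s0_mem : s0 ∈ K50 := Subgroup.subset_closure (by simp)
theorem s1_mem : s1 ∈ K50 := Subgroup.subset_closure (by simp)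
theorem s2_mem : s2 ∈ K50 := Subgroup.subset_closure (by simp)
theorem s3_mem : s3 ∈ K50 := Subgroup.subset_closure (by simp)
theorem s4_mem : s4 ∈ K50 := Subgroup.subset_closure (by simp)
theorem s5_mem : s5 ∈ K50 := Subgroup.subset_closure (by simp)

/-- orbit-stabiliser inequality for a subgroup -/
theorem card_ge (H : Subgroup (Equiv.Perm (Fin 50))) (b : Fin 50) (S : Finset (Fin 50))
    (h : ∀ s ∈ S, ∃ g ∈ H, g b = s) :
    S.card * Nat.card (H ⊓ MulAction.stabilizer (Equiv.Perm (Fin 50)) b : Subgroup _) ≤ Nat.card H := by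
  classical
  choose! t ht htb using h
  let f : (S × (H ⊓ MulAction.stabilizer (Equiv.Perm (Fin 50)) b : Subgroup _)) → H :=
    fun p => ⟨t p.1 * p.2.1, H.mul_mem (ht p.1 p.1.2) p.2.2.1⟩
  have hf : Function.Injective f := by
    rintro ⟨⟨s, hs⟩, k, hk⟩ ⟨⟨s', hs'⟩, k', hk'⟩ hh
    have h1 : t s * k = t s' * k' := congrArg Subtype.val hh
    have hkb : k b = b := hk.2
    have hkb' : k' b = b := hk'.2
    have h2 : s = s' := by
      have h3 := congrArg (fun g : Equiv.Perm (Fin 50) => g b) h1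
      simp only [Equiv.Perm.mul_apply, hkb, hkb', htb s hs, htb s' hs'] at h3
      exact h3
    subst h2
    have h4 : k = k' := mul_left_cancel h1
    subst h4
    rfl
  have := Nat.card_le_card_of_injective f hf
  rw [Nat.card_prod, Nat.card_eq_fintype_card (α := S), Fintype.card_coe] at this
  exact this

theorem step {H : Subgroup (Equiv.Perm (Fin 50))} {b s t : Fin 50} {σ : Equiv.Perm (Fin 50)}
    (hσ : σ ∈ H) (h : ∃ g ∈ H, g b = s) (hst : σ s = t) : ∃ g ∈ H, g b = t := by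
  obtain ⟨g, hg, hgb⟩ := h
  exact ⟨σ * g, H.mul_mem hσ hg, by rw [Equiv.Perm.mul_apply, hgb, hst]⟩

theorem start (H : Subgroup (Equiv.Perm (Fin 50))) (b : Fin 50) : ∃ g ∈ H, g b = b :=
  ⟨1, H.one_mem, rfl⟩

theorem trans50 (s : Fin 50) : ∃ g ∈ K50, g 0 = s := by
  have r0 := start K50 0
  have r15 : ∃ g ∈ K50, g 0 = 15 := step s0_mem r0 (by decide +kernel)
  have r30 : ∃ g ∈ K50, g 0 = 30 := step s1_mem r15 (by decide +kernel)
  have r22 : ∃ g ∈ K50, g 0 = 22 := step s2_mem r15 (by decide +kernel)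
  have r29 : ∃ g ∈ K50, g 0 = 29 := step s3_mem r15 (by decide +kernel)
  have r12 : ∃ g ∈ K50, g 0 = 12 := step s4_mem r15 (by decide +kernel)
  have r24 : ∃ g ∈ K50, g 0 = 24 := step s5_mem r15 (by decide +kernel)
  have r28 : ∃ g ∈ K50, g 0 = 28 := step s0_mem r30 (by decide +kernel)
  have r48 : ∃ g ∈ K50, g 0 = 48 := step s1_mem r30 (by decide +kernel)
  have r33 : ∃ g ∈ K50, g 0 = 33 := step s2_mem r30 (by decide +kernel)
  have r20 : ∃ g ∈ K50, g 0 = 20 := step s3_mem r30 (by decide +kernel)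
  have r14 : ∃ g ∈ K50, g 0 = 14 := step s5_mem r30 (by decide +kernel)
  have r1 : ∃ g ∈ K50, g 0 = 1 := step s0_mem r22 (by decide +kernel)
  have r10 : ∃ g ∈ K50, g 0 = 10 := step s3_mem r22 (by decide +kernel)
  have r37 : ∃ g ∈ K50, g 0 = 37 := step s4_mem r22 (by decide +kernel)
  have r49 : ∃ g ∈ K50, g 0 = 49 := step s3_mem r29 (by decide +kernel)
  have r38 : ∃ g ∈ K50, g 0 = 38 := step s4_mem r29 (by decide +kernel)
  have r32 : ∃ g ∈ K50, g 0 = 32 := step s2_mem r12 (by decide +kernel)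
  have r46 : ∃ g ∈ K50, g 0 = 46 := step s1_mem r28 (by decide +kernel)
  have r25 : ∃ g ∈ K50, g 0 = 25 := step s2_mem r28 (by decide +kernel)
  have r23 : ∃ g ∈ K50, g 0 = 23 := step s3_mem r28 (by decide +kernel)
  have r36 : ∃ g ∈ K50, g 0 = 36 := step s4_mem r28 (by decide +kernel)
  have r13 : ∃ g ∈ K50, g 0 = 13 := step s5_mem r28 (by decide +kernel)
  have r18 : ∃ g ∈ K50, g 0 = 18 := step s0_mem r48 (by decide +kernel)
  have r47 : ∃ g ∈ K50, g 0 = 47 := step s1_mem r48 (by decide +kernel)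
  have r19 : ∃ g ∈ K50, g 0 = 19 := step s2_mem r48 (by decide +kernel)
  have r45 : ∃ g ∈ K50, g 0 = 45 := step s3_mem r48 (by decide +kernel)
  have r7 : ∃ g ∈ K50, g 0 = 7 := step s0_mem r33 (by decide +kernel)
  have r11 : ∃ g ∈ K50, g 0 = 11 := step s2_mem r33 (by decide +kernel)
  have r39 : ∃ g ∈ K50, g 0 = 39 := step s5_mem r33 (by decide +kernel)
  have r16 : ∃ g ∈ K50, g 0 = 16 := step s2_mem r20 (by decide +kernel)
  have r31 : ∃ g ∈ K50, g 0 = 31 := step s0_mem r14 (by decide +kernel)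
  have r17 : ∃ g ∈ K50, g 0 = 17 := step s1_mem r14 (by decide +kernel)
  have r43 : ∃ g ∈ K50, g 0 = 43 := step s4_mem r14 (by decide +kernel)
  have r2 : ∃ g ∈ K50, g 0 = 2 := step s1_mem r1 (by decide +kernel)
  have r8 : ∃ g ∈ K50, g 0 = 8 := step s0_mem r37 (by decide +kernel)
  have r9 : ∃ g ∈ K50, g 0 = 9 := step s0_mem r46 (by decide +kernel)
  have r41 : ∃ g ∈ K50, g 0 = 41 := step s1_mem r46 (by decide +kernel)
  have r35 : ∃ g ∈ K50, g 0 = 35 := step s3_mem r46 (by decide +kernel)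
  have r21 : ∃ g ∈ K50, g 0 = 21 := step s5_mem r25 (by decide +kernel)
  have r27 : ∃ g ∈ K50, g 0 = 27 := step s3_mem r23 (by decide +kernel)
  have r5 : ∃ g ∈ K50, g 0 = 5 := step s0_mem r36 (by decide +kernel)
  have r40 : ∃ g ∈ K50, g 0 = 40 := step s5_mem r36 (by decide +kernel)
  have r34 : ∃ g ∈ K50, g 0 = 34 := step s2_mem r18 (by decide +kernel)
  have r42 : ∃ g ∈ K50, g 0 = 42 := step s4_mem r18 (by decide +kernel)
  have r44 : ∃ g ∈ K50, g 0 = 44 := step s5_mem r18 (by decide +kernel)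
  have r6 : ∃ g ∈ K50, g 0 = 6 := step s0_mem r47 (by decide +kernel)
  have r3 : ∃ g ∈ K50, g 0 = 3 := step s3_mem r7 (by decide +kernel)
  have r26 : ∃ g ∈ K50, g 0 = 26 := step s3_mem r9 (by decide +kernel)
  have r4 : ∃ g ∈ K50, g 0 = 4 := step s0_mem r27 (by decide +kernel)
  fin_cases s
  · exact r0
  · exact r1
  · exact r2
  · exact r3
  · exact r4
  · exact r5
  · exact r6
  · exact r7
  · exact r8
  · exact r9
  · exact r10
  · exact r11
  · exact r12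
  · exact r13
  · exact r14
  · exact r15
  · exact r16
  · exact r17
  · exact r18
  · exact r19
  · exact r20
  · exact r21
  · exact r22
  · exact r23
  · exact r24
  · exact r25
  · exact r26
  · exact r27
  · exact r28
  · exact r29
  · exact r30
  · exact r31
  · exact r32
  · exact r33
  · exact r34
  · exact r35
  · exact r36
  · exact r37
  · exact r38
  · exact r39
  · exact r40
  · exact r41
  · exact r42
  · exact r43
  · exact r44
  · exact r45
  · exact r46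
  · exact r47
  · exact r48
  · exact r49

/-- stabiliser chain -/
def H1 : Subgroup (Equiv.Perm (Fin 50)) := K50 ⊓ MulAction.stabilizer (Equiv.Perm (Fin 50)) (0 : Fin 50)
/-- stabiliser chain -/
def H2 : Subgroup (Equiv.Perm (Fin 50)) := H1 ⊓ MulAction.stabilizer (Equiv.Perm (Fin 50)) (1 : Fin 50)
/-- stabiliser chain -/
def H3 : Subgroup (Equiv.Perm (Fin 50)) := H2 ⊓ MulAction.stabilizer (Equiv.Perm (Fin 50)) (2 : Fin 50)
/-- stabiliser chain -/
def H4 : Subgroup (Equiv.Perm (Fin 50)) := H3 ⊓ MulAction.stabilizer (Equiv.Perm (Fin 50)) (3 : Fin 50)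
/-- stabiliser chain -/
def H5 : Subgroup (Equiv.Perm (Fin 50)) := H4 ⊓ MulAction.stabilizer (Equiv.Perm (Fin 50)) (4 : Fin 50)

theorem stab_mem {σ : Equiv.Perm (Fin 50)} {b : Fin 50} (h : σ b = b) :
    σ ∈ MulAction.stabilizer (Equiv.Perm (Fin 50)) b := h

theorem s1_mem1 : s1 ∈ H1 := ⟨s1_mem, stab_mem (by decide +kernel)⟩
theorem s2_mem1 : s2 ∈ H1 := ⟨s2_mem, stab_mem (by decide +kernel)⟩
theorem s3_mem1 : s3 ∈ H1 := ⟨s3_mem, stab_mem (by decide +kernel)⟩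
theorem s4_mem1 : s4 ∈ H1 := ⟨s4_mem, stab_mem (by decide +kernel)⟩
theorem s5_mem1 : s5 ∈ H1 := ⟨s5_mem, stab_mem (by decide +kernel)⟩
theorem s2_mem2 : s2 ∈ H2 := ⟨s2_mem1, stab_mem (by decide +kernel)⟩
theorem s3_mem2 : s3 ∈ H2 := ⟨s3_mem1, stab_mem (by decide +kernel)⟩
theorem s4_mem2 : s4 ∈ H2 := ⟨s4_mem1, stab_mem (by decide +kernel)⟩
theorem s5_mem2 : s5 ∈ H2 := ⟨s5_mem1, stab_mem (by decide +kernel)⟩
theorem s3_mem3 : s3 ∈ H3 := ⟨s3_mem2, stab_mem (by decide +kernel)⟩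
theorem s4_mem3 : s4 ∈ H3 := ⟨s4_mem2, stab_mem (by decide +kernel)⟩
theorem s5_mem3 : s5 ∈ H3 := ⟨s5_mem2, stab_mem (by decide +kernel)⟩
theorem s4_mem4 : s4 ∈ H4 := ⟨s4_mem3, stab_mem (by decide +kernel)⟩
theorem s5_mem4 : s5 ∈ H4 := ⟨s5_mem3, stab_mem (by decide +kernel)⟩
theorem s5_mem5 : s5 ∈ H5 := ⟨s5_mem4, stab_mem (by decide +kernel)⟩
theorem orb1 : ∀ s ∈ (Finset.Icc (1 : Fin 50) 7), ∃ g ∈ H1, g 1 = s := by
  have r1 := start H1 1
  have r2 : ∃ g ∈ H1, g 1 = 2 := step s1_mem1 r1 (by decide +kernel)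
  have r3 : ∃ g ∈ H1, g 1 = 3 := step s1_mem1 r2 (by decide +kernel)
  have r4 : ∃ g ∈ H1, g 1 = 4 := step s1_mem1 r3 (by decide +kernel)
  have r5 : ∃ g ∈ H1, g 1 = 5 := step s1_mem1 r4 (by decide +kernel)
  have r6 : ∃ g ∈ H1, g 1 = 6 := step s1_mem1 r5 (by decide +kernel)
  have r7 : ∃ g ∈ H1, g 1 = 7 := step s1_mem1 r6 (by decide +kernel)
  intro s hs
  have hs1 : 1 ≤ (s : ℕ) ∧ (s : ℕ) ≤ 7 := by
    rw [Finset.mem_Icc] at hs
    exact ⟨Fin.le_def.mp hs.1, Fin.le_def.mp hs.2⟩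
  obtain ⟨n, hn⟩ := s
  simp only at hs1
  obtain ⟨h1, h2⟩ := hs1
  interval_cases n
  · exact r1
  · exact r2
  · exact r3
  · exact r4
  · exact r5
  · exact r6
  · exact r7
theorem orb2 : ∀ s ∈ (Finset.Icc (2 : Fin 50) 7), ∃ g ∈ H2, g 2 = s := by
  have r2 := start H2 2
  have r3 : ∃ g ∈ H2, g 2 = 3 := step s2_mem2 r2 (by decide +kernel)
  have r4 : ∃ g ∈ H2, g 2 = 4 := step s2_mem2 r3 (by decide +kernel)
  have r5 : ∃ g ∈ H2, g 2 = 5 := step s2_mem2 r4 (by decide +kernel)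
  have r6 : ∃ g ∈ H2, g 2 = 6 := step s2_mem2 r5 (by decide +kernel)
  have r7 : ∃ g ∈ H2, g 2 = 7 := step s3_mem2 r6 (by decide +kernel)
  intro s hs
  have hs1 : 2 ≤ (s : ℕ) ∧ (s : ℕ) ≤ 7 := by
    rw [Finset.mem_Icc] at hs
    exact ⟨Fin.le_def.mp hs.1, Fin.le_def.mp hs.2⟩
  obtain ⟨n, hn⟩ := s
  simp only at hs1
  obtain ⟨h1, h2⟩ := hs1
  interval_cases n
  · exact r2
  · exact r3
  · exact r4
  · exact r5
  · exact r6
  · exact r7
theorem orb3 : ∀ s ∈ (Finset.Icc (3 : Fin 50) 7), ∃ g ∈ H3, g 3 = s := by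
  have r3 := start H3 3
  have r4 : ∃ g ∈ H3, g 3 = 4 := step s3_mem3 r3 (by decide +kernel)
  have r5 : ∃ g ∈ H3, g 3 = 5 := step s3_mem3 r4 (by decide +kernel)
  have r6 : ∃ g ∈ H3, g 3 = 6 := step s3_mem3 r5 (by decide +kernel)
  have r7 : ∃ g ∈ H3, g 3 = 7 := step s3_mem3 r6 (by decide +kernel)
  intro s hs
  have hs1 : 3 ≤ (s : ℕ) ∧ (s : ℕ) ≤ 7 := by
    rw [Finset.mem_Icc] at hs
    exact ⟨Fin.le_def.mp hs.1, Fin.le_def.mp hs.2⟩
  obtain ⟨n, hn⟩ := s
  simp only at hs1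
  obtain ⟨h1, h2⟩ := hs1
  interval_cases n
  · exact r3
  · exact r4
  · exact r5
  · exact r6
  · exact r7
theorem orb4 : ∀ s ∈ (Finset.Icc (4 : Fin 50) 7), ∃ g ∈ H4, g 4 = s := by
  have r4 := start H4 4
  have r5 : ∃ g ∈ H4, g 4 = 5 := step s4_mem4 r4 (by decide +kernel)
  have r6 : ∃ g ∈ H4, g 4 = 6 := step s4_mem4 r5 (by decide +kernel)
  have r7 : ∃ g ∈ H4, g 4 = 7 := step s5_mem4 r6 (by decide +kernel)
  intro s hs
  have hs1 : 4 ≤ (s : ℕ) ∧ (s : ℕ) ≤ 7 := by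
    rw [Finset.mem_Icc] at hs
    exact ⟨Fin.le_def.mp hs.1, Fin.le_def.mp hs.2⟩
  obtain ⟨n, hn⟩ := s
  simp only at hs1
  obtain ⟨h1, h2⟩ := hs1
  interval_cases n
  · exact r4
  · exact r5
  · exact r6
  · exact r7
theorem orb5 : ∀ s ∈ (Finset.Icc (5 : Fin 50) 7), ∃ g ∈ H5, g 5 = s := by
  have r5 := start H5 5
  have r6 : ∃ g ∈ H5, g 5 = 6 := step s5_mem5 r5 (by decide +kernel)
  have r7 : ∃ g ∈ H5, g 5 = 7 := step s5_mem5 r6 (by decide +kernel)
  intro s hs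
  have hs1 : 5 ≤ (s : ℕ) ∧ (s : ℕ) ≤ 7 := by
    rw [Finset.mem_Icc] at hs
    exact ⟨Fin.le_def.mp hs.1, Fin.le_def.mp hs.2⟩
  obtain ⟨n, hn⟩ := s
  simp only at hs1
  obtain ⟨h1, h2⟩ := hs1
  interval_cases n
  · exact r5
  · exact r6
  · exact r7

theorem card_K50_ge : 126000 ≤ Nat.card K50 := by
  have h0 := card_ge K50 0 Finset.univ (fun s _ => trans50 s)
  have h1 := card_ge H1 1 (Finset.Icc (1 : Fin 50) 7) orb1
  have h2 := card_ge H2 2 (Finset.Icc (2 : Fin 50) 7) orb2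
  have h3 := card_ge H3 3 (Finset.Icc (3 : Fin 50) 7) orb3
  have h4 := card_ge H4 4 (Finset.Icc (4 : Fin 50) 7) orb4
  have h5 := card_ge H5 5 (Finset.Icc (5 : Fin 50) 7) orb5
  have c0 : (Finset.univ : Finset (Fin 50)).card = 50 := by simp
  have c1 : (Finset.Icc (1 : Fin 50) 7).card = 7 := by decide
  have c2 : (Finset.Icc (2 : Fin 50) 7).card = 6 := by decide
  have c3 : (Finset.Icc (3 : Fin 50) 7).card = 5 := by decide
  have c4 : (Finset.Icc (4 : Fin 50) 7).card = 4 := by decide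
  have c5 : (Finset.Icc (5 : Fin 50) 7).card = 3 := by decide
  rw [c0] at h0
  rw [c1] at h1
  rw [c2] at h2
  rw [c3] at h3
  rw [c4] at h4
  rw [c5] at h5
  change 50 * Nat.card H1 ≤ _ at h0
  change 7 * Nat.card H2 ≤ _ at h1
  change 6 * Nat.card H3 ≤ _ at h2
  change 5 * Nat.card H4 ≤ _ at h3
  change 4 * Nat.card H5 ≤ _ at h4
  have h6 : 0 < Nat.card (H5 ⊓ MulAction.stabilizer (Equiv.Perm (Fin 50)) (5 : Fin 50) : Subgroup _) :=
    Nat.card_pos
  omega

theorem fix_only (j : Fin 50) : s1 j = j → s2 j = j → s3 j = j → s4 j = j → s5 j = j → j = 0 := by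
  revert j; decide +kernel

/-- the centraliser of K50 in the symmetric group is trivial -/
theorem centralizer_trivial (π : Equiv.Perm (Fin 50)) (h : ∀ g ∈ K50, π * g = g * π) : π = 1 := by
  have h0 : π 0 = 0 := by
    have key : ∀ σ ∈ K50, σ 0 = 0 → σ (π 0) = π 0 := by
      intro σ hσ hs
      have := congrArg (fun g : Equiv.Perm (Fin 50) => g 0) (h σ hσ)
      simp only [Equiv.Perm.mul_apply, hs] at this
      exact this.symm
    apply fix_only
    · exact key s1 s1_mem (by decide +kernel)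
    · exact key s2 s2_mem (by decide +kernel)
    · exact key s3 s3_mem (by decide +kernel)
    · exact key s4 s4_mem (by decide +kernel)
    · exact key s5 s5_mem (by decide +kernel)
  ext s
  obtain ⟨g, hg, hgs⟩ := trans50 s
  have := congrArg (fun g : Equiv.Perm (Fin 50) => g 0) (h g hg)
  simp only [Equiv.Perm.mul_apply, h0, hgs] at this
  rw [this]; rfl

end Cfsg.Agent.SporStruct.U35K50
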