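/-
PSU(3,5) (over any field of order 25) is isomorphic to the explicit permutation group K50 of degree 50.
-/
import Mathlib
import Cfsg.Prelude.Def_Classical
import Cfsg.Agent.SporStruct.U35Field
import Cfsg.Agent.SporStruct.U35Table
import Cfsg.Agent.SporStruct.U35SU
import Cfsg.Agent.SporStruct.U35Col
import Cfsg.Agent.SporStruct.U35K50

set_option autoImplicit false

namespace Cfsg.Agent.SporStruct.U35Iso

open Cfsg Matrix
open Cfsg.Agent.SporStruct.U35Field Cfsg.Agent.SporStruct.U35Table Cfsg.Agent.SporStruct.U35SU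
open Cfsg.Agent.SporStruct.U35Col Cfsg.Agent.SporStruct.U35K50

/-- determinant of codes -/
def detN (m : Mat3) : ℕ :=
  addN (addN (mulN m.a (addN (mulN m.e m.i) (mulN 4 (mulN m.f m.h))))
    (mulN 4 (mulN m.b (addN (mulN m.d m.i) (mulN 4 (mulN m.f m.g))))))
    (mulN m.c (addN (mulN m.d m.h) (mulN 4 (mulN m.e m.g))))

/-- hermitian product of codes -/
def hN (x y z x' y' z' : ℕ) : ℕ := rowN x y z (conjN x') (conjN y') (conjN z')

/-- check that a matrix of codes is special unitary -/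
def chkSU (m : Mat3) : Bool :=
  and (Nat.beq (detN m) 1) (and
  (and (Nat.beq (hN m.a m.d m.g m.a m.d m.g) 1) (and (Nat.beq (hN m.a m.d m.g m.b m.e m.h) 0)
    (Nat.beq (hN m.a m.d m.g m.c m.f m.i) 0))) (and
  (and (Nat.beq (hN m.b m.e m.h m.a m.d m.g) 0) (and (Nat.beq (hN m.b m.e m.h m.b m.e m.h) 1)
    (Nat.beq (hN m.b m.e m.h m.c m.f m.i) 0)))
  (and (Nat.beq (hN m.c m.f m.i m.a m.d m.g) 0) (and (Nat.beq (hN m.c m.f m.i m.b m.e m.h) 0)
    (Nat.beq (hN m.c m.f m.i m.c m.f m.i) 1)))))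

/-- cube root of unity -/
def mω : Mat3 := ⟨12, 0, 0, 0, 12, 0, 0, 0, 12⟩

theorem su0 : chkSU m0 = true := by decide
theorem su1 : chkSU m1 = true := by decide
theorem su2 : chkSU m2 = true := by decide
theorem su3 : chkSU m3 = true := by decide
theorem su4 : chkSU m4 = true := by decide
theorem su5 : chkSU m5 = true := by decide
theorem suω : chkSU mω = true := by decide

variable {F : Type} [Field F]

section
variable (h5 : (5 : F) = 0) (θ : F) (hθ : θ ^ 2 = 2)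

include h5 hθ

theorem e_four_mul (x : ℕ) : e θ (mulN 4 x) = - e θ x := by
  rw [e_mul h5 θ hθ, e_of_lt5 θ (by norm_num : 4 < 5)]
  push_cast
  linear_combination (e θ x) * h5

theorem e_rowN (x y z a b c : ℕ) :
    e θ (rowN x y z a b c) = e θ x * e θ a + e θ y * e θ b + e θ z * e θ c := by
  unfold rowN
  rw [e_add h5, e_add h5, e_mul h5 θ hθ, e_mul h5 θ hθ, e_mul h5 θ hθ]

theorem e_hN {x y z x' y' z' r : ℕ} (h : Nat.beq (hN x y z x' y' z') r = true) :
    e θ x * e θ x' ^ 5 + e θ y * e θ y' ^ 5 + e θ z * e θ z' ^ 5 = e θ r := by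
  have h1 := Nat.eq_of_beq_eq_true h
  rw [← h1]
  unfold hN
  rw [e_rowN h5 θ hθ, e_conj h5 θ hθ, e_conj h5 θ hθ, e_conj h5 θ hθ]

theorem matF_det {m : Mat3} (h : chkSU m = true) : (matF θ m).det = 1 := by
  unfold chkSU at h
  rw [Bool.and_eq_true] at h
  have h1 := Nat.eq_of_beq_eq_true h.1
  have h2 : e θ (detN m) = 1 := by rw [h1, e_one]
  rw [← h2]
  unfold detN matF
  rw [Matrix.det_fin_three]
  simp only [e_add h5, e_mul h5 θ hθ, Matrix.of_apply, Matrix.cons_val',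
    Matrix.cons_val_zero, Matrix.cons_val_one, Matrix.cons_val]
  rw [e_of_lt5 θ (by norm_num : 4 < 5)]
  push_cast
  linear_combination (-(e θ m.a * e θ m.f * e θ m.h) - e θ m.e * e θ m.g * e θ m.c -
    e θ m.i * e θ m.b * e θ m.d - 3 * (e θ m.f * e θ m.b * e θ m.g)) * h5

theorem matF_herm {m : Mat3} (h : chkSU m = true) (u v : Fin 3 → F) :
    hermForm 3 F 5 (matF θ m *ᵥ u) (matF θ m *ᵥ v) = hermForm 3 F 5 u v := by
  unfold chkSU at h
  simp only [Bool.and_eq_true] at h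
  obtain ⟨-, ⟨h11, h12, h13⟩, ⟨h21, h22, h23⟩, ⟨h31, h32, h33⟩⟩ := h
  have k11 := e_hN h5 θ hθ h11
  have k12 := e_hN h5 θ hθ h12
  have k13 := e_hN h5 θ hθ h13
  have k21 := e_hN h5 θ hθ h21
  have k22 := e_hN h5 θ hθ h22
  have k23 := e_hN h5 θ hθ h23
  have k31 := e_hN h5 θ hθ h31
  have k32 := e_hN h5 θ hθ h32
  have k33 := e_hN h5 θ hθ h33
  rw [e_zero] at k12 k13 k21 k23 k31 k32
  rw [e_one] at k11 k22 k33
  unfold hermForm matF
  simp only [Matrix.mulVec, dotProduct, Fin.sum_univ_three, Matrix.of_apply, Matrix.cons_val',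
    Matrix.cons_val_zero, Matrix.cons_val_one, Matrix.cons_val]
  simp only [add_pow_five h5, mul_pow]
  linear_combination (u 0 * v 0 ^ 5) * k11 + (u 0 * v 1 ^ 5) * k12 + (u 0 * v 2 ^ 5) * k13 +
    (u 1 * v 0 ^ 5) * k21 + (u 1 * v 1 ^ 5) * k22 + (u 1 * v 2 ^ 5) * k23 +
    (u 2 * v 0 ^ 5) * k31 + (u 2 * v 1 ^ 5) * k32 + (u 2 * v 2 ^ 5) * k33

/-- the element of SU(3,5) with a given table -/
def suOf (m : Mat3) (h : chkSU m = true) : SU 3 F 5 :=
  ⟨⟨matF θ m, matF_det h5 θ hθ h⟩, fun u v => matF_herm h5 θ hθ h u v⟩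

omit h5 hθ in
theorem mat_suOf (h5 : (5 : F) = 0) (hθ : θ ^ 2 = 2) (m : Mat3) (h : chkSU m = true) :
    mat (suOf h5 θ hθ m h) = matF θ m := rfl

end

/-- the group of compatible pairs -/
def Dgrp (E' : Fin 25 ≃ F) : Subgroup (SU 3 F 5 × Equiv.Perm (Fin 50)) where
  carrier := {p | ∀ (u : Fin 3 → F) (j : Fin 50),
    bt (Mk E' (mat p.1 *ᵥ u)) (p.2 j : ℕ) = bt (Mk E' u) (j : ℕ)}
  mul_mem' {p q} hp hq := by
    intro u j
    change bt (Mk E' (mat (p.1 * q.1) *ᵥ u)) ((p.2 * q.2) j : ℕ) = _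
    rw [mat_mul_mulVec, Equiv.Perm.mul_apply, hp, hq]
  one_mem' := by
    intro u j
    change bt (Mk E' (mat (1 : SU 3 F 5) *ᵥ u)) (j : ℕ) = _
    rw [mat_one, Matrix.one_mulVec]
  inv_mem' {p} hp := by
    intro u j
    change bt (Mk E' (mat (p.1⁻¹) *ᵥ u)) ((p.2⁻¹) j : ℕ) = _
    have h := hp (mat (p.1⁻¹) *ᵥ u) (p.2⁻¹ j)
    have hj : p.2 (p.2⁻¹ j) = j := p.2.apply_symm_apply j
    rw [mat_mulVec_inv, hj] at h
    exact h.symm

theorem mem_Dgrp (E' : Fin 25 ≃ F) (g : SU 3 F 5) (π : Equiv.Perm (Fin 50)) :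
    (g, π) ∈ Dgrp E' ↔ ∀ (u : Fin 3 → F) (j : Fin 50),
      bt (Mk E' (mat g *ᵥ u)) (π j : ℕ) = bt (Mk E' u) (j : ℕ) := Iff.rfl

section
variable [Fintype F] (hF : Fintype.card F = 25) (h5 : (5 : F) = 0) (θ : F) (hθ : θ ^ 2 = 2)

theorem gen_mem (m : Mat3) (P Q : ℕ) (hP : chkPerm P Q = true) (hG : chkGen m P = true)
    (hs : chkSU m = true) : (suOf h5 θ hθ m hs, mkPerm P Q hP) ∈ Dgrp (E hF h5 θ hθ) := by
  rw [mem_Dgrp]
  intro u j
  rw [mkPerm_apply]
  exact chkGen_spec hF h5 θ hθ hG u j j.2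

/-- projection to the permutations -/
def pr2 (E' : Fin 25 ≃ F) : Dgrp E' →* Equiv.Perm (Fin 50) :=
  (MonoidHom.snd (SU 3 F 5) (Equiv.Perm (Fin 50))).comp (Dgrp E').subtype

/-- projection to the matrices -/
def pr1 (E' : Fin 25 ≃ F) : Dgrp E' →* SU 3 F 5 :=
  (MonoidHom.fst (SU 3 F 5) (Equiv.Perm (Fin 50))).comp (Dgrp E').subtype

theorem K50_le_range : K50 ≤ (pr2 (E hF h5 θ hθ)).range := by
  unfold K50
  rw [Subgroup.closure_le]
  intro g hg
  simp only [Set.mem_insert_iff, Set.mem_singleton_iff] at hg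
  rcases hg with rfl | rfl | rfl | rfl | rfl | rfl
  · exact ⟨⟨_, gen_mem hF h5 θ hθ m0 P0 Q0 cP0 cG0 su0⟩, rfl⟩
  · exact ⟨⟨_, gen_mem hF h5 θ hθ m1 P1 Q1 cP1 cG1 su1⟩, rfl⟩
  · exact ⟨⟨_, gen_mem hF h5 θ hθ m2 P2 Q2 cP2 cG2 su2⟩, rfl⟩
  · exact ⟨⟨_, gen_mem hF h5 θ hθ m3 P3 Q3 cP3 cG3 su3⟩, rfl⟩
  · exact ⟨⟨_, gen_mem hF h5 θ hθ m4 P4 Q4 cP4 cG4 su4⟩, rfl⟩
  · exact ⟨⟨_, gen_mem hF h5 θ hθ m5 P5 Q5 cP5 cG5 su5⟩, rfl⟩

theorem allLt_of (p : ℕ → Bool) (n : ℕ) (h : ∀ k < n, p k = true) : allLt p n = true := by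
  induction n with
  | zero => rfl
  | succ n ih =>
    change (and (p n) (allLt p n)) = true
    rw [Bool.and_eq_true]
    exact ⟨h n (Nat.lt_succ_self n), ih (fun k hk => h k (Nat.lt_succ_of_lt hk))⟩

theorem bt_cases (M j : ℕ) : bt M j = 0 ∨ bt M j = 1 := by
  unfold bt; omega

/-- an entry of the table is the mask of a vector -/
theorem entry_eq {i : ℕ} (hi : i < 625) :
    entry i = Mk (E hF h5 θ hθ) (vec θ 1 (i / 25) (i % 25)) := by
  rw [Mk_vec hF h5 θ hθ (by norm_num) (by omega) (by omega)]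
  unfold colN
  have h1 : Nat.beq 1 0 = false := rfl
  rw [h1]
  change entry i = entry (25 * mulN (i / 25) (invN 1) + mulN (i % 25) (invN 1))
  have key : ∀ x < 25, mulN x (invN 1) = x := by decide
  rw [key _ (by omega), key _ (by omega), Nat.div_add_mod]

theorem pr1_injective : Function.Injective (pr1 (E hF h5 θ hθ)) := by
  rw [injective_iff_map_eq_one]
  rintro ⟨⟨g, π⟩, hg⟩ h
  change g = 1 at h
  subst h
  rw [mem_Dgrp] at hg
  have hπ : π = 1 := by
    ext j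
    by_contra hne
    have hs := allLt_spec _ _ (allLt_spec _ _ sepChk_true (j : ℕ) j.2) (π j : ℕ) (π j).2
    rw [Bool.or_eq_true, Bool.not_eq_true'] at hs
    rcases hs with hs | hs
    · exact hne (Nat.eq_of_beq_eq_true hs).symm
    · have : allLt (fun i => or (Nat.beq (bt (entry i) (j : ℕ)) 0)
          (Nat.beq (bt (entry i) (π j : ℕ)) 1)) 625 = true := by
        apply allLt_of
        intro i hi
        rw [Bool.or_eq_true]
        have h1 := hg (vec θ 1 (i / 25) (i % 25)) j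
        rw [mat_one, Matrix.one_mulVec, ← entry_eq hF h5 θ hθ hi] at h1
        rcases bt_cases (entry i) (j : ℕ) with h2 | h2
        · left; rw [h2]; rfl
        · right; rw [h1, h2]; rfl
      rw [this] at hs
      exact Bool.noConfusion hs
  subst hπ
  rfl

theorem entry_lt (k : ℕ) : entry k < 2 ^ 50 := by
  unfold entry
  exact Nat.mod_lt _ (by norm_num)

theorem bt_eq_testBit (M j : ℕ) : Nat.testBit M j = decide (bt M j = 1) := by
  unfold bt
  rw [Nat.testBit_eq_decide_div_mod_eq, Nat.shiftRight_eq_div_pow]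

theorem eq_of_bits {M M' : ℕ} (h : M < 2 ^ 50) (h' : M' < 2 ^ 50)
    (H : ∀ j < 50, bt M j = bt M' j) : M = M' := by
  apply Nat.eq_of_testBit_eq
  intro j
  by_cases hj : j < 50
  · rw [bt_eq_testBit, bt_eq_testBit, H j hj]
  · have hj' : 50 ≤ j := not_lt.mp hj
    rw [Nat.testBit_lt_two_pow (lt_of_lt_of_le h (Nat.pow_le_pow_right (by norm_num) hj')),
      Nat.testBit_lt_two_pow (lt_of_lt_of_le h' (Nat.pow_le_pow_right (by norm_num) hj'))]

omit [Fintype F] in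
theorem Mk_lt (E' : Fin 25 ≃ F) (u : Fin 3 → F) : Mk E' u < 2 ^ 50 := by
  unfold Mk Mk3
  split_ifs
  · norm_num
  · exact entry_lt _
  · exact entry_lt _
  · exact entry_lt _

/-- a vector with the mask number `k`, for a unique mask, is proportional to the vector with index `k` -/
theorem uniq_spec {k : ℕ} (hk : uniqChk k = true) {a b c : ℕ}
    (hidx : ∀ a' b' c' : ℕ, ((a' = 1 ∧ b' < 25 ∧ c' < 25) ∨ (a' = 0 ∧ b' = 1 ∧ c' < 25) ∨
      (a' = 0 ∧ b' = 0 ∧ c' = 1)) →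
      (a' = a ∧ b' = b ∧ c' = c) ∨ ∃ i < 651, i ≠ k ∧ colN a' b' c' = entry i)
    (u : Fin 3 → F) (hu : u ≠ 0) (hM : Mk (E hF h5 θ hθ) u = entry k) :
    ∃ l : F, u = l • vec θ a b c := by
  obtain ⟨l, a', b', c', hl, hul, hcase⟩ := exists_rep hF h5 θ hθ u hu
  have hlt : a' < 25 ∧ b' < 25 ∧ c' < 25 := by
    rcases hcase with ⟨rfl, hb, hc⟩ | ⟨rfl, rfl, hc⟩ | ⟨rfl, rfl, rfl⟩
    · exact ⟨by norm_num, hb, hc⟩
    · exact ⟨by norm_num, by norm_num, hc⟩
    · exact ⟨by norm_num, by norm_num, by norm_num⟩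
  rcases hidx a' b' c' hcase with ⟨rfl, rfl, rfl⟩ | ⟨i, hi, hik, hcol⟩
  · exact ⟨l, hul⟩
  · exfalso
    rw [hul, Mk_smul _ _ hl, Mk_vec hF h5 θ hθ hlt.1 hlt.2.1 hlt.2.2, hcol] at hM
    unfold uniqChk at hk
    rw [force_eq] at hk
    have := allLt_spec _ _ hk i hi
    rw [Bool.or_eq_true, Bool.not_eq_true'] at this
    rcases this with h | h
    · exact hik (Nat.eq_of_beq_eq_true h)
    · rw [hM] at h
      have h2 : Nat.beq (entry k) (entry k) = true := by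
        rw [Nat.beq_eq]
      rw [h2] at h
      exact Bool.noConfusion h

theorem mulN_one_inv : ∀ x < 25, mulN x (invN 1) = x := by decide

theorem colN_one {b c : ℕ} (hb : b < 25) (hc : c < 25) : colN 1 b c = entry (25 * b + c) := by
  change entry (25 * mulN b (invN 1) + mulN c (invN 1)) = _
  rw [mulN_one_inv b hb, mulN_one_inv c hc]

theorem colN_zero_one {c : ℕ} (hc : c < 25) : colN 0 1 c = entry (625 + c) := by
  change entry (625 + mulN c (invN 1)) = _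
  rw [mulN_one_inv c hc]

theorem colN_zero_zero_one : colN 0 0 1 = entry 650 := rfl

theorem idx_of {k a b c : ℕ} (hk : (a = 1 ∧ b < 25 ∧ c < 25 ∧ k = 25 * b + c) ∨
    (a = 0 ∧ b = 1 ∧ c < 25 ∧ k = 625 + c) ∨ (a = 0 ∧ b = 0 ∧ c = 1 ∧ k = 650)) :
    ∀ a' b' c' : ℕ, ((a' = 1 ∧ b' < 25 ∧ c' < 25) ∨ (a' = 0 ∧ b' = 1 ∧ c' < 25) ∨
      (a' = 0 ∧ b' = 0 ∧ c' = 1)) →
      (a' = a ∧ b' = b ∧ c' = c) ∨ ∃ i < 651, i ≠ k ∧ colN a' b' c' = entry i := by
  intro a' b' c' h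
  by_cases heq : a' = a ∧ b' = b ∧ c' = c
  · exact Or.inl heq
  · right
    rcases h with ⟨rfl, hb, hc⟩ | ⟨rfl, rfl, hc⟩ | ⟨rfl, rfl, rfl⟩
    · exact ⟨25 * b' + c', by omega, by omega, colN_one hb hc⟩
    · exact ⟨625 + c', by omega, by omega, colN_zero_one hc⟩
    · exact ⟨650, by omega, by omega, colN_zero_zero_one⟩

/-- an element acting trivially on the masks is scalar -/
theorem scalar_of_trivial (g : SU 3 F 5)
    (hg : ∀ u : Fin 3 → F, Mk (E hF h5 θ hθ) (mat g *ᵥ u) = Mk (E hF h5 θ hθ) u) :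
    ∃ l : F, ∀ u : Fin 3 → F, mat g *ᵥ u = l • u := by
  have hne : ∀ u : Fin 3 → F, u ≠ 0 → mat g *ᵥ u ≠ 0 := by
    intro u hu h
    apply hu
    have := congrArg (fun v => mat g⁻¹ *ᵥ v) h
    simp only [mat_inv_mulVec, Matrix.mulVec_zero] at this
    exact this
  have ne1 : (![1, 0, 0] : Fin 3 → F) ≠ 0 := by
    intro h; have := congrFun h 0; simp at this
  have ne2 : (![0, 1, 0] : Fin 3 → F) ≠ 0 := by
    intro h; have := congrFun h 1; simp at this
  have ne3 : (![0, 0, 1] : Fin 3 → F) ≠ 0 := by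
    intro h; have := congrFun h 2; simp at this
  have ne4 : (![1, 1, 1] : Fin 3 → F) ≠ 0 := by
    intro h; have := congrFun h 0; simp at this
  have v1 : vec θ 1 0 0 = ![1, 0, 0] := by simp [U35Col.vec, e_zero, e_one]
  have v2 : vec θ 0 1 0 = ![0, 1, 0] := by simp [U35Col.vec, e_zero, e_one]
  have v3 : vec θ 0 0 1 = ![0, 0, 1] := by simp [U35Col.vec, e_zero, e_one]
  have v4 : vec θ 1 1 1 = ![1, 1, 1] := by simp [U35Col.vec, e_one]
  have M1 : Mk (E hF h5 θ hθ) (vec θ 1 0 0) = entry 0 := by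
    rw [Mk_vec hF h5 θ hθ (by norm_num) (by norm_num) (by norm_num), colN_one (by norm_num) (by norm_num)]
  have M2 : Mk (E hF h5 θ hθ) (vec θ 0 1 0) = entry 625 := by
    rw [Mk_vec hF h5 θ hθ (by norm_num) (by norm_num) (by norm_num), colN_zero_one (by norm_num)]
  have M3 : Mk (E hF h5 θ hθ) (vec θ 0 0 1) = entry 650 := by
    rw [Mk_vec hF h5 θ hθ (by norm_num) (by norm_num) (by norm_num)]; rfl
  have M4 : Mk (E hF h5 θ hθ) (vec θ 1 1 1) = entry 26 := by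
    rw [Mk_vec hF h5 θ hθ (by norm_num) (by norm_num) (by norm_num), colN_one (by norm_num) (by norm_num)]
  obtain ⟨l1, h1⟩ := uniq_spec hF h5 θ hθ uniq1 (a := 1) (b := 0) (c := 0)
    (idx_of (by left; norm_num)) (mat g *ᵥ ![1, 0, 0]) (hne _ ne1) (by rw [hg, ← v1, M1])
  obtain ⟨l2, h2⟩ := uniq_spec hF h5 θ hθ uniq2 (a := 0) (b := 1) (c := 0)
    (idx_of (by right; left; norm_num)) (mat g *ᵥ ![0, 1, 0]) (hne _ ne2) (by rw [hg, ← v2, M2])
  obtain ⟨l3, h3⟩ := uniq_spec hF h5 θ hθ uniq3 (a := 0) (b := 0) (c := 1)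
    (idx_of (by right; right; norm_num)) (mat g *ᵥ ![0, 0, 1]) (hne _ ne3) (by rw [hg, ← v3, M3])
  obtain ⟨l4, h4⟩ := uniq_spec hF h5 θ hθ uniq4 (a := 1) (b := 1) (c := 1)
    (idx_of (by left; norm_num)) (mat g *ᵥ ![1, 1, 1]) (hne _ ne4) (by rw [hg, ← v4, M4])
  rw [v1] at h1
  rw [v2] at h2
  rw [v3] at h3
  rw [v4] at h4
  have hsum : (![1, 1, 1] : Fin 3 → F) = ![1, 0, 0] + ![0, 1, 0] + ![0, 0, 1] := by
    funext i; fin_cases i <;> simp
  rw [hsum, Matrix.mulVec_add, Matrix.mulVec_add, h1, h2, h3] at h4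
  have e1 : l1 = l4 := by simpa using congrFun h4 0
  have e2 : l2 = l4 := by simpa using congrFun h4 1
  have e3 : l3 = l4 := by simpa using congrFun h4 2
  refine ⟨l4, fun u => ?_⟩
  have hu : u = u 0 • ![1, 0, 0] + u 1 • ![0, 1, 0] + u 2 • ![0, 0, 1] := by
    funext i; fin_cases i <;> simp
  conv_lhs => rw [hu]
  conv_rhs => rw [hu]
  rw [Matrix.mulVec_add, Matrix.mulVec_add, Matrix.mulVec_smul, Matrix.mulVec_smul,
    Matrix.mulVec_smul, h1, h2, h3, e1, e2, e3, smul_add, smul_add]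
  rw [smul_comm (u 0), smul_comm (u 1), smul_comm (u 2)]

theorem Mk_eq_of_mem_ker {g : SU 3 F 5} (hg : (g, (1 : Equiv.Perm (Fin 50))) ∈ Dgrp (E hF h5 θ hθ))
    (u : Fin 3 → F) : Mk (E hF h5 θ hθ) (mat g *ᵥ u) = Mk (E hF h5 θ hθ) u := by
  apply eq_of_bits (Mk_lt _ _) (Mk_lt _ _)
  intro j hj
  exact hg u ⟨j, hj⟩

theorem mem_of_scalar {g : SU 3 F 5} {l : F} (h : ∀ u : Fin 3 → F, mat g *ᵥ u = l • u) :
    (g, (1 : Equiv.Perm (Fin 50))) ∈ Dgrp (E hF h5 θ hθ) := by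
  rw [mem_Dgrp]
  intro u j
  rw [h u]
  have hl : l ≠ 0 := by
    rintro rfl
    have h1 := h (mat g⁻¹ *ᵥ ![1, 0, 0])
    rw [mat_mulVec_inv, zero_smul] at h1
    have h2 := congrFun h1 0
    simp at h2
  rw [Mk_smul _ _ hl]; rfl

omit [Fintype F] in
/-- the scalar matrix of a cube root of unity -/
theorem matω (u : Fin 3 → F) : matF θ mω *ᵥ u = (e θ 12) • u := by
  funext i
  fin_cases i <;> simp [matF, mω, e_zero, Matrix.mulVec, dotProduct, Fin.sum_univ_three]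

/-- the three elements of the kernel -/
theorem card_ker_ge : 3 ≤ Nat.card (pr2 (E hF h5 θ hθ)).ker := by
  classical
  let z : SU 3 F 5 := suOf h5 θ hθ mω suω
  have hz : ∀ u : Fin 3 → F, mat z *ᵥ u = (e θ 12) • u := fun u => matω θ u
  have hz2 : ∀ u : Fin 3 → F, mat (z * z) *ᵥ u = (e θ 12 * e θ 12) • u := by
    intro u
    rw [mat_mul_mulVec, hz, hz, smul_smul]
  have h12 : e θ 12 ≠ (1 : F) := by
    intro h
    have := e_inj h5 θ hθ (x := 12) (y := 1) (by norm_num) (by norm_num) (by rw [h, e_one])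
    omega
  have h12' : e θ 12 * e θ 12 ≠ (1 : F) := by
    intro h
    rw [← e_mul h5 θ hθ] at h
    have h3 : mulN 12 12 = 17 := by decide
    rw [h3] at h
    have := e_inj h5 θ hθ (x := 17) (y := 1) (by norm_num) (by norm_num) (by rw [h, e_one])
    omega
  have hz1 : z ≠ 1 := by
    intro h
    apply h12
    have := hz ![1, 0, 0]
    rw [h, mat_one, Matrix.one_mulVec] at this
    simpa using (congrFun this 0).symm
  have hzz : z * z ≠ 1 := by
    intro h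
    apply h12'
    have := hz2 ![1, 0, 0]
    rw [h, mat_one, Matrix.one_mulVec] at this
    simpa using (congrFun this 0).symm
  have m1 : (z, (1 : Equiv.Perm (Fin 50))) ∈ Dgrp (E hF h5 θ hθ) := mem_of_scalar hF h5 θ hθ hz
  have m2 : (z * z, (1 : Equiv.Perm (Fin 50))) ∈ Dgrp (E hF h5 θ hθ) := mem_of_scalar hF h5 θ hθ hz2
  let k1 : (pr2 (E hF h5 θ hθ)).ker := ⟨⟨_, m1⟩, rfl⟩
  let k2 : (pr2 (E hF h5 θ hθ)).ker := ⟨⟨_, m2⟩, rfl⟩
  let f : Fin 3 → (pr2 (E hF h5 θ hθ)).ker := ![1, k1, k2]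
  have g1 : k1 ≠ 1 := by
    intro h
    have : z = 1 := congrArg (fun t : (pr2 (E hF h5 θ hθ)).ker => t.1.1.1) h
    exact hz1 this
  have g2 : k2 ≠ 1 := by
    intro h
    have : z * z = 1 := congrArg (fun t : (pr2 (E hF h5 θ hθ)).ker => t.1.1.1) h
    exact hzz this
  have g3 : k1 ≠ k2 := by
    intro h
    have : z = z * z := congrArg (fun t : (pr2 (E hF h5 θ hθ)).ker => t.1.1.1) h
    exact hz1 (left_eq_mul.mp this)
  have hf : Function.Injective f := by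
    intro i j hij
    fin_cases i <;> fin_cases j <;> simp [f] at hij ⊢
    · exact g1 hij.symm
    · exact g2 hij.symm
    · exact g1 hij
    · exact g3 hij
    · exact g2 hij
    · exact g3 hij.symm
  have := Nat.card_le_card_of_injective f hf
  simpa using this

theorem card_facts : Nat.card (SU 3 F 5) = 378000 ∧ Function.Bijective (pr1 (E hF h5 θ hθ)) ∧
    (pr2 (E hF h5 θ hθ)).range = K50 ∧ Nat.card K50 = 126000 := by
  have a1 : Nat.card (Dgrp (E hF h5 θ hθ)) ≤ Nat.card (SU 3 F 5) :=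
    Nat.card_le_card_of_injective _ (pr1_injective hF h5 θ hθ)
  have a2 : Nat.card (SU 3 F 5) ≤ 378000 := card_SU_le' hF
  have a3 : Nat.card (pr2 (E hF h5 θ hθ)).ker * Nat.card (pr2 (E hF h5 θ hθ)).range =
      Nat.card (Dgrp (E hF h5 θ hθ)) := by
    rw [← Subgroup.index_ker, Subgroup.card_mul_index]
  have a4 := card_ker_ge hF h5 θ hθ
  have a5 : Nat.card K50 ≤ Nat.card (pr2 (E hF h5 θ hθ)).range :=
    Nat.card_le_card_of_injective _ (Subgroup.inclusion_injective (K50_le_range hF h5 θ hθ))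
  have a6 := card_K50_ge
  have a7 : 3 * 126000 ≤ Nat.card (Dgrp (E hF h5 θ hθ)) := by
    rw [← a3]; exact Nat.mul_le_mul a4 (le_trans a6 a5)
  have b1 : Nat.card (Dgrp (E hF h5 θ hθ)) = 378000 := by omega
  have b2 : Nat.card (SU 3 F 5) = 378000 := by omega
  have b3 : Nat.card (pr2 (E hF h5 θ hθ)).range ≤ 126000 := by
    have : 3 * Nat.card (pr2 (E hF h5 θ hθ)).range ≤ 378000 := by
      rw [← b1, ← a3]; exact Nat.mul_le_mul_right _ a4
    omega
  refine ⟨b2, ?_, ?_, by omega⟩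
  · exact (Nat.bijective_iff_injective_and_card _).mpr ⟨pr1_injective hF h5 θ hθ, by rw [b1, b2]⟩
  · exact (Subgroup.eq_of_le_of_card_ge (K50_le_range hF h5 θ hθ) (by omega)).symm

/-- the isomorphism between SU(3,5) and the group of pairs -/
noncomputable def equivD : Dgrp (E hF h5 θ hθ) ≃* SU 3 F 5 :=
  MulEquiv.ofBijective (pr1 (E hF h5 θ hθ)) (card_facts hF h5 θ hθ).2.1

/-- the permutation representation of SU(3,5) of degree 50 -/
noncomputable def rep : SU 3 F 5 →* Equiv.Perm (Fin 50) :=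
  (pr2 (E hF h5 θ hθ)).comp (equivD hF h5 θ hθ).symm.toMonoidHom

theorem rep_mem (g : SU 3 F 5) : (g, rep hF h5 θ hθ g) ∈ Dgrp (E hF h5 θ hθ) := by
  have h : (g, rep hF h5 θ hθ g) = ((equivD hF h5 θ hθ).symm g).1 := by
    apply Prod.ext
    · have := (equivD hF h5 θ hθ).apply_symm_apply g
      exact this.symm
    · rfl
  rw [h]
  exact ((equivD hF h5 θ hθ).symm g).2

theorem range_rep : (rep hF h5 θ hθ).range = K50 := by
  rw [← (card_facts hF h5 θ hθ).2.2.1]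
  ext π
  constructor
  · rintro ⟨g, rfl⟩
    exact ⟨(equivD hF h5 θ hθ).symm g, rfl⟩
  · rintro ⟨d, rfl⟩
    exact ⟨equivD hF h5 θ hθ d, by
      change pr2 _ ((equivD hF h5 θ hθ).symm (equivD hF h5 θ hθ d)) = _
      rw [MulEquiv.symm_apply_apply]⟩

theorem ker_rep : (rep hF h5 θ hθ).ker = Subgroup.center (SU 3 F 5) := by
  apply le_antisymm
  · intro g hg
    rw [MonoidHom.mem_ker] at hg
    have h1 := rep_mem hF h5 θ hθ g
    rw [hg] at h1
    obtain ⟨l, hl⟩ := scalar_of_trivial hF h5 θ hθ g (Mk_eq_of_mem_ker hF h5 θ hθ h1)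
    rw [Subgroup.mem_center_iff]
    intro k
    apply mat_inj
    rw [mat_mul, mat_mul]
    have hgl : mat g = l • (1 : Matrix (Fin 3) (Fin 3) F) := by
      apply Matrix.ext_of_mulVec_single
      intro i
      rw [hl, Matrix.smul_mulVec, Matrix.one_mulVec]
    rw [hgl, Matrix.mul_smul, Matrix.smul_mul, Matrix.mul_one, Matrix.one_mul]
  · intro g hg
    rw [MonoidHom.mem_ker]
    apply centralizer_trivial
    intro k hk
    rw [← range_rep hF h5 θ hθ] at hk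
    obtain ⟨k', rfl⟩ := hk
    rw [← map_mul, ← map_mul, (Subgroup.mem_center_iff.mp hg k')]

end

/-- PSU(3,5) is isomorphic to the permutation group K50. -/
theorem psu35_iso (F : Type) [Field F] [Fintype F] (hF : Fintype.card F = 25) :
    Nonempty (Cfsg.PSU 3 F 5 ≃* K50) := by
  obtain ⟨h5, θ, hθ⟩ := exists_theta hF
  have h1 : Cfsg.PSU 3 F 5 ≃* (SU 3 F 5 ⧸ (rep hF h5 θ hθ).ker) :=
    QuotientGroup.quotientMulEquivOfEq (ker_rep hF h5 θ hθ).symm
  have h2 : (SU 3 F 5 ⧸ (rep hF h5 θ hθ).ker) ≃* (rep hF h5 θ hθ).range :=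
    QuotientGroup.quotientKerEquivRange _
  have h3 : (rep hF h5 θ hθ).range ≃* K50 := MulEquiv.subgroupCongr (range_rep hF h5 θ hθ)
  exact ⟨(h1.trans h2).trans h3⟩

end Cfsg.Agent.SporStruct.U35Iso
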