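import Cfsg.Agent.SporStruct.HSStabData
import Cfsg.Agent.SporStruct.U35Iso

/-!
The joint stabiliser of `v0`, `w0`, `x0` acts on the 50 vectors as the permutation group K50, once its
order is known to be at most 126000.
-/

set_option autoImplicit false

namespace Cfsg.Agent.SporStruct.HSStabIso

open Cfsg Cfsg.Agent.LeechMat.Code Cfsg.Agent.LeechMat.Core Cfsg.Agent.LeechMat.Elements
open Cfsg.Agent.LeechMat.Orbit
open Cfsg.Agent.SporStruct.U35Table Cfsg.Agent.SporStruct.U35K50 Cfsg.Agent.SporStruct.HSStabData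

theorem ys_spec {j : ℕ} (hj : j < 50) : isLeech (yc.getD j 0) = true ∧
    sqNorm (vec (yc.getD j 0)) = 32 ∧ yc.getD j 0 < 32 ^ 24 := by
  have h := allLt_spec _ _ ysOK_true j hj
  rw [Bool.and_eq_true, Bool.and_eq_true, beq_iff_eq, Nat.blt_eq, dotc_eq] at h
  exact ⟨h.1, by rw [sqNorm_eq_dotInt]; exact h.2.1, h.2.2⟩

/-- the 50 vectors -/
def Y (j : Fin 50) : leechLattice := ⟨vec (yc.getD j 0), isLeech_sound (ys_spec j.2).1⟩

theorem coe_Y (j : Fin 50) : (Y j : GolayPt → ℤ) = vec (yc.getD j 0) := rfl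

theorem Y_injective : Function.Injective Y := by
  intro i j h
  have h1 : vec (yc.getD i 0) = vec (yc.getD j 0) := congrArg Subtype.val h
  have h2 := vec_inj (ys_spec i.2).2.2 (ys_spec j.2).2.2 h1
  have hlen : yc.length = 50 := rfl
  rw [List.getD_eq_getElem _ _ (by rw [hlen]; exact i.2),
    List.getD_eq_getElem _ _ (by rw [hlen]; exact j.2)] at h2
  exact Fin.ext ((List.Nodup.getElem_inj_iff nodup_yc).1 h2)

theorem act_gen {d : ℕ} {A : List ℕ} {P Q : ℕ} (hP : chkPerm P Q = true) {g : Co0}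
    (hr : Rep d A g) (hact : actOK d A P = true) (j : Fin 50) :
    g • Y j = Y (mkPerm P Q hP j) := by
  have h := allLt_spec _ _ hact j j.2
  rw [beq_iff_eq] at h
  apply Subtype.ext
  exact hr.step (x := Y j) rfl (by rw [coe_Y, (ys_spec j.2).2.1]; norm_num)
    (ys_spec (mkPerm P Q hP j).2).2.2 h

/-- the standard triple -/
structure Std3 (v w x : leechLattice) : Prop where
  hv : (v : GolayPt → ℤ) = vec vc
  hw : (w : GolayPt → ℤ) = vec wc
  hx : (x : GolayPt → ℤ) = vec xc

theorem norm_vc : sqNorm (vec vc) ≤ 225 := by rw [sqNorm_eq_dotInt, ← dotc_eq]; decide +kernel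
theorem norm_wc : sqNorm (vec wc) ≤ 225 := by rw [sqNorm_eq_dotInt, ← dotc_eq]; decide +kernel
theorem norm_xc : sqNorm (vec xc) ≤ 225 := by rw [sqNorm_eq_dotInt, ← dotc_eq]; decide +kernel

section
variable {v w x : leechLattice} (h : Std3 v w x)
include h

/-- existence of the generators -/
theorem exists_gen {d : ℕ} {A I : List ℕ} {P Q : ℕ} (hP : chkPerm P Q = true)
    (hrep : checkRep d A I = true) (hfix : fixes d A [vc, wc, xc] = true)
    (hact : actOK d A P = true) :
    ∃ g ∈ (MulAction.stabilizer Co0 v ⊓ MulAction.stabilizer Co0 w ⊓ MulAction.stabilizer Co0 x :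
      Subgroup Co0), ∀ j, g • Y j = Y (mkPerm P Q hP j) := by
  obtain ⟨g, hg⟩ := exists_rep hrep
  refine ⟨g, ⟨⟨?_, ?_⟩, ?_⟩, act_gen hP hg hact⟩
  · exact fixes_sound hg hfix (c := vc) (by simp) h.hv (by rw [h.hv]; exact norm_vc)
  · exact fixes_sound hg hfix (c := wc) (by simp) h.hw (by rw [h.hw]; exact norm_wc)
  · exact fixes_sound hg hfix (c := xc) (by simp) h.hx (by rw [h.hx]; exact norm_xc)

end

/-- the group of compatible pairs -/
def D (v w x : leechLattice) : Subgroup (Co0 × Equiv.Perm (Fin 50)) where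
  carrier := {p | p.1 ∈ (MulAction.stabilizer Co0 v ⊓ MulAction.stabilizer Co0 w ⊓
    MulAction.stabilizer Co0 x : Subgroup Co0) ∧ ∀ j, p.1 • Y j = Y (p.2 j)}
  mul_mem' {p q} hp hq := by
    refine ⟨Subgroup.mul_mem _ hp.1 hq.1, fun j => ?_⟩
    change (p.1 * q.1) • Y j = Y ((p.2 * q.2) j)
    rw [mul_smul, hq.2, hp.2, Equiv.Perm.mul_apply]
  one_mem' := ⟨Subgroup.one_mem _, fun j => one_smul _ _⟩
  inv_mem' {p} hp := by
    refine ⟨Subgroup.inv_mem _ hp.1, fun j => ?_⟩
    change p.1⁻¹ • Y j = Y (p.2⁻¹ j)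
    rw [inv_smul_eq_iff, hp.2]
    congr 1
    exact (p.2.apply_symm_apply j).symm

/-- projection to the permutations -/
def pr2 (v w x : leechLattice) : D v w x →* Equiv.Perm (Fin 50) :=
  (MonoidHom.snd Co0 (Equiv.Perm (Fin 50))).comp (D v w x).subtype

/-- projection to the stabiliser -/
def pr1 (v w x : leechLattice) : D v w x →*
    (MulAction.stabilizer Co0 v ⊓ MulAction.stabilizer Co0 w ⊓ MulAction.stabilizer Co0 x :
      Subgroup Co0) where
  toFun p := ⟨p.1.1, p.2.1⟩
  map_one' := rfl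
  map_mul' _ _ := rfl

theorem pr1_injective (v w x : leechLattice) : Function.Injective (pr1 v w x) := by
  rintro ⟨⟨g, π⟩, hg⟩ ⟨⟨g', π'⟩, hg'⟩ h
  have h1 : g = g' := congrArg Subtype.val h
  subst h1
  have h2 : π = π' := by
    ext j
    have a := hg.2 j
    have b := hg'.2 j
    change g • Y j = Y (π j) at a
    change g • Y j = Y (π' j) at b
    rw [a] at b
    exact congrArg Fin.val (Y_injective b)
  subst h2
  rfl

/-- a vector orthogonal to the 24 vectors is zero -/
theorem eq_zero_of_orth (z : GolayPt → ℤ) (hz : ∀ k < 24, dotInt z (vec (uc.getD k 0)) = 0) :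
    z = 0 := by
  funext i
  have hc := certOK_true
  unfold certOK at hc
  rw [allTo_iff] at hc
  have hc1 := hc (pos i) (pos_lt i)
  rw [allTo_iff] at hc1
  have key : ∀ p : GolayPt, ∑ k ∈ Finset.range 24,
      (cert.getD (pos i) []).getD k 0 * vec (uc.getD k 0) p = if p = i then 240 else 0 := by
    intro p
    have h1 := hc1 (pos p) (pos_lt p)
    rw [beq_iff_eq, sumTo_eq] at h1
    have h2 : (pos p = pos i) ↔ (p = i) := ⟨pos_inj, fun h => by rw [h]⟩
    simp only [h2] at h1
    rw [← h1]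
    rfl
  have h3 : ∑ p : GolayPt, z p * (∑ k ∈ Finset.range 24,
      (cert.getD (pos i) []).getD k 0 * vec (uc.getD k 0) p) = 0 := by
    simp only [Finset.mul_sum]
    rw [Finset.sum_comm]
    apply Finset.sum_eq_zero
    intro k hk
    have h4 := hz k (Finset.mem_range.1 hk)
    unfold dotInt at h4
    have h5 : ∀ p, z p * ((cert.getD (pos i) []).getD k 0 * vec (uc.getD k 0) p) =
        (cert.getD (pos i) []).getD k 0 * (z p * vec (uc.getD k 0) p) := fun p => by ring
    simp only [h5]
    rw [← Finset.mul_sum, h4, mul_zero]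
  simp only [key, mul_ite, mul_zero, Finset.sum_ite_eq', Finset.mem_univ, if_true] at h3
  simp only [Pi.zero_apply]
  omega

/-- every vector of the certificate is one of the fixed vectors -/
theorem uc_cases : ∀ k < 24, uc.getD k 0 = vc ∨ uc.getD k 0 = wc ∨ uc.getD k 0 = xc ∨
    ∃ j : Fin 50, uc.getD k 0 = yc.getD j 0 := by
  decide +kernel

theorem pr2_injective {v w x : leechLattice} (h : Std3 v w x) :
    Function.Injective (pr2 v w x) := by
  rw [injective_iff_map_eq_one]
  rintro ⟨⟨g, π⟩, hg⟩ hπ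
  change π = 1 at hπ
  subst hπ
  have hgv : g • v = v := hg.1.1.1
  have hgw : g • w = w := hg.1.1.2
  have hgx : g • x = x := hg.1.2
  have hgY : ∀ j, g • Y j = Y j := hg.2
  have hfix : ∀ k < 24, ∃ u : leechLattice, (u : GolayPt → ℤ) = vec (uc.getD k 0) ∧ g • u = u := by
    intro k hk
    rcases uc_cases k hk with h1 | h1 | h1 | ⟨j, h1⟩
    · exact ⟨v, by rw [h1]; exact h.hv, hgv⟩
    · exact ⟨w, by rw [h1]; exact h.hw, hgw⟩
    · exact ⟨x, by rw [h1]; exact h.hx, hgx⟩
    · exact ⟨Y j, by rw [h1]; rfl, hgY j⟩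
  have hg1 : g = 1 := by
    apply Subtype.ext
    apply Equiv.ext
    intro l
    apply Subtype.ext
    have : ((g • l : leechLattice) : GolayPt → ℤ) - (l : GolayPt → ℤ) = 0 := by
      apply eq_zero_of_orth
      intro k hk
      obtain ⟨u, hu, hgu⟩ := hfix k hk
      rw [← hu, dotInt_sub_left]
      have := co0_dotInt g l u
      rw [hgu] at this
      rw [this, sub_self]
    exact sub_eq_zero.1 this
  subst hg1
  rfl

theorem K50_le_range {v w x : leechLattice} (h : Std3 v w x) : K50 ≤ (pr2 v w x).range := by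
  unfold K50
  rw [Subgroup.closure_le]
  have key : ∀ {d : ℕ} {A I : List ℕ} {P Q : ℕ} (hP : chkPerm P Q = true),
      checkRep d A I = true → fixes d A [vc, wc, xc] = true → actOK d A P = true →
      mkPerm P Q hP ∈ (pr2 v w x).range := by
    intro d A I P Q hP h1 h2 h3
    obtain ⟨g, hg, hgY⟩ := exists_gen h hP h1 h2 h3
    exact ⟨⟨(g, mkPerm P Q hP), hg, hgY⟩, rfl⟩
  intro g hg
  simp only [Set.mem_insert_iff, Set.mem_singleton_iff] at hg
  rcases hg with rfl | rfl | rfl | rfl | rfl | rfl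
  · exact key cP0 rep0 fix0 act0
  · exact key cP1 rep1 fix1 act1
  · exact key cP2 rep2 fix2 act2
  · exact key cP3 rep3 fix3 act3
  · exact key cP4 rep4 fix4 act4
  · exact key cP5 rep5 fix5 act5

/-- The stabiliser of the standard triple is isomorphic to K50 if its order is at most 126000. -/
theorem stab_equiv {v w x : leechLattice} (h : Std3 v w x)
    [Finite (MulAction.stabilizer Co0 v ⊓ MulAction.stabilizer Co0 w ⊓ MulAction.stabilizer Co0 x :
      Subgroup Co0)]
    (hcard : Nat.card (MulAction.stabilizer Co0 v ⊓ MulAction.stabilizer Co0 w ⊓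
      MulAction.stabilizer Co0 x : Subgroup Co0) ≤ 126000) :
    Nonempty ((MulAction.stabilizer Co0 v ⊓ MulAction.stabilizer Co0 w ⊓
      MulAction.stabilizer Co0 x : Subgroup Co0) ≃* K50) := by
  have f1 : Finite (D v w x) := Finite.of_injective _ (pr1_injective v w x)
  have a1 : Nat.card (D v w x) ≤ Nat.card (MulAction.stabilizer Co0 v ⊓
      MulAction.stabilizer Co0 w ⊓ MulAction.stabilizer Co0 x : Subgroup Co0) :=
    Nat.card_le_card_of_injective _ (pr1_injective v w x)
  have e1 : D v w x ≃* (pr2 v w x).range := MonoidHom.ofInjective (pr2_injective h)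
  have a2 : Nat.card (D v w x) = Nat.card (pr2 v w x).range := Nat.card_congr e1.toEquiv
  have a3 : Nat.card K50 ≤ Nat.card (pr2 v w x).range :=
    Nat.card_le_card_of_injective _ (Subgroup.inclusion_injective (K50_le_range h))
  have a4 := card_K50_ge
  have b1 : Function.Bijective (pr1 v w x) :=
    (Nat.bijective_iff_injective_and_card _).mpr ⟨pr1_injective v w x, by omega⟩
  have b2 : K50 = (pr2 v w x).range := Subgroup.eq_of_le_of_card_ge (K50_le_range h) (by omega)
  exact ⟨((MulEquiv.ofBijective (pr1 v w x) b1).symm.trans e1).trans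
    (MulEquiv.subgroupCongr b2.symm)⟩

end Cfsg.Agent.SporStruct.HSStabIso
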